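import Groth.Agent.UnibFibre.Transfer
import Groth.Agent.FlatDvrVC5.UnivOpenFlat
import Groth.Agent.AlgSpVal.DvrThrough
import Groth.Agent.H23.SpFlat
import Groth.Agent.H23.FinCondSch
import Groth.Agent.GeomRedFlat5.Nhd
import Groth.Agent.GeomField.Reduced
import Groth.Agent.AlgSpDec.GeomRed
import Groth.Agent.H0FBC.GeomRed
import Groth.Agent.UnivOpen.AffineSpaceUnibranch
import Groth.Agent.UnibEtale.Chart

/-!
# Universally open morphisms with geometrically integral fibres over geometrically unibranch bases (EGA IV 14.4.9)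
-/

noncomputable section

set_option autoImplicit false
set_option linter.style.haveILetI false
set_option linter.unusedSectionVars false
set_option backward.isDefEq.respectTransparency.types false
set_option maxHeartbeats 1000000
set_option synthInstance.maxHeartbeats 400000

universe u

open CategoryTheory CategoryTheory.Limits AlgebraicGeometry IsLocalRing TopologicalSpace

namespace Groth.Agent.UnibFibre

/-- a local ring with a regular element cutting out a domain is a domain -/
theorem isDomain_of_regular_quotient {E D : Type u} [CommRing E] [IsLocalRing E] [IsNoetherianRing E] [CommRing D]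
    [IsDomain D] (π : E) (hπ : π ∈ maximalIdeal E) (hreg : Function.Injective fun e : E => π • e)
    (φ : E →+* D) (hφ : Function.Surjective φ) (hker : RingHom.ker φ = Ideal.span {π}) : IsDomain E := by
  haveI : (Ideal.span {π}).IsPrime := hker ▸ RingHom.ker_isPrime φ
  have hdiv : ∀ a : E, a ≠ 0 → ∃ (n : ℕ) (b : E), a = π ^ n * b ∧ b ∉ Ideal.span {π} := by
    intro a ha
    by_contra h
    push_neg at h
    have hall : ∀ n, a ∈ (Ideal.span {π} ^ n : Ideal E) := fun n => by
      induction n with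
      | zero => simp
      | succ n ih =>
        rw [Ideal.span_singleton_pow, Ideal.mem_span_singleton] at ih ⊢
        obtain ⟨b, rfl⟩ := ih
        obtain ⟨c, rfl⟩ := Ideal.mem_span_singleton.1 (h n b rfl)
        exact ⟨c, by ring⟩
    refine ha ?_
    have h0 := Ideal.iInf_pow_eq_bot_of_isLocalRing (I := Ideal.span {π})
      (fun e => (maximalIdeal.isMaximal E).ne_top (top_le_iff.1 (e ▸ (Ideal.span_singleton_le_iff_mem _).2 hπ)))
    rw [← Submodule.mem_bot E, ← h0, Submodule.mem_iInf]
    exact hall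
  have hpow : ∀ (n : ℕ) (e : E), π ^ n * e = 0 → e = 0 := fun n => by
    induction n with
    | zero => simp
    | succ n ih =>
      intro e he
      refine ih e (hreg (show π • (π ^ n * e) = π • (0 : E) from ?_))
      rw [smul_zero, smul_eq_mul, ← he]
      ring
  haveI : NoZeroDivisors E := ⟨fun {a b} hab => by
    by_contra h
    push_neg at h
    obtain ⟨m, a', rfl, ha'⟩ := hdiv a h.1
    obtain ⟨n, b', rfl, hb'⟩ := hdiv b h.2
    have h' : a' * b' = 0 := hpow (m + n) _ (by rw [← hab]; ring)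
    rcases ‹(Ideal.span {π}).IsPrime›.mem_or_mem (h' ▸ zero_mem _ : a' * b' ∈ Ideal.span {π}) with h'' | h''
    · exact ha' h''
    · exact hb' h''⟩
  exact NoZeroDivisors.to_isDomain E

variable {X Y : Scheme.{u}} [IsLocallyNoetherian Y] (f : X ⟶ Y) [LocallyOfFiniteType f]

/-- the hypothesis of universal openness at the generic points of the components of the fibre -/
def OpenAtGeneric (x : X) : Prop :=
  ∀ z : ↥(f.fiber (f.base x)), f.asFiber x ∈ closure {z} →
    (∀ z' : ↥(f.fiber (f.base x)), z ∈ closure {z'} → z' = z) →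
    EGA43.IsUnivOpenAt f ((f.fiberι (f.base x)).base z)

omit [IsLocallyNoetherian Y] [LocallyOfFiniteType f] in
theorem exists_fibMax (x : X) : ∃ z, z ⤳ x ∧ f z = f x ∧ FibDim.FibMax f z := by
  obtain ⟨m, hm, hmax⟩ := FibDim.exists_maximal_generization (f.asFiber x)
  have hfz : f (f.fiberι (f x) m) = f x := FibDim.fiber_apply_fiberι f m
  refine ⟨f.fiberι (f x) m, ?_, hfz, fun y hy hfy => ?_⟩
  · have h := hm.map (f.fiberι (f x)).continuous
    rwa [Scheme.Hom.fiberι_asFiber] at h
  · obtain ⟨y', rfl⟩ : y ∈ Set.range (f.fiberι (f x)) := by rw [Scheme.Hom.range_fiberι]; exact hfy.trans hfz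
    rw [hmax y' ((f.fiberι (f x)).isEmbedding.isInducing.specializes_iff.1 hy)]

omit [IsLocallyNoetherian Y] [LocallyOfFiniteType f] in
theorem fibMax_unique (x : X) (hx : IsDomain ((f.fiber (f x)).presheaf.stalk (f.asFiber x))) {z₁ z₂ : X}
    (h₁ : z₁ ⤳ x) (e₁ : f z₁ = f x) (m₁ : FibDim.FibMax f z₁) (h₂ : z₂ ⤳ x) (e₂ : f z₂ = f x)
    (m₂ : FibDim.FibMax f z₂) : z₁ = z₂ := by
  obtain ⟨ξ, -, hξ⟩ := (H23.FinCondSch.exists_top_generization_iff (f.asFiber x)).1
    (by rw [nilradical_eq_zero]; exact Ideal.isPrime_bot)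
  have key : ∀ z : X, z ⤳ x → f z = f x → FibDim.FibMax f z → f.fiberι (f x) ξ = z := by
    intro z h e m
    obtain ⟨z', rfl⟩ : z ∈ Set.range (f.fiberι (f x)) := by rw [Scheme.Hom.range_fiberι]; exact e
    have h' : z' ⤳ f.asFiber x := (f.fiberι (f x)).isEmbedding.isInducing.specializes_iff.1 (by
      rw [Scheme.Hom.fiberι_asFiber]; exact h)
    exact m _ ((hξ z' h').map (f.fiberι (f x)).continuous)
      ((FibDim.fiber_apply_fiberι f ξ).trans e.symm)
  rw [← key z₁ h₁ e₁ m₁, key z₂ h₂ e₂ m₂]

/-- universally open at generic points of the fibre and geometrically reduced fibre: flat after base change to a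
discrete valuation ring -/
theorem flat_stalkMap_dvr (x : X) (hopen : OpenAtGeneric f x)
    (hred : FBase.IsGeomReducedAt (f.fiberToSpecResidueField (f.base x)) (f.asFiber x))
    {R : Type u} [CommRing R] [IsDomain R] [IsDiscreteValuationRing R] (τ : Spec (CommRingCat.of R) ⟶ Y)
    (hτ : τ (closedPoint R) = f x) (w : ↥((pullback.snd f τ).fiber (closedPoint R)))
    (hx' : pullback.fst f τ ((pullback.snd f τ).fiberι (closedPoint R) w) = x) :
    ((pullback.snd f τ).stalkMap ((pullback.snd f τ).fiberι (closedPoint R) w)).hom.Flat := by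
  let q := pullback.snd f τ
  let p := pullback.fst f τ
  have hc' : q (q.fiberι (closedPoint R) w) = closedPoint R := FibDim.fiber_apply_fiberι q w
  refine FlatDvr.flat_stalkMap q rfl w (fun z hz hqz hmax => ?_) ?_
  · have hqzc : q z = closedPoint R := hqz.trans hc'
    have hpz : f (p z) = f x := by
      rw [← Scheme.Hom.comp_apply, pullback.condition, Scheme.Hom.comp_apply, hqzc, hτ]
    have hzx : p z ⤳ x := (hz.map p.continuous).trans (specializes_of_eq hx')
    have hm := FibDim.fibMax_of_baseChange (IsPullback.of_hasPullback f τ) hmax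
    obtain ⟨v, hv⟩ : p z ∈ Set.range (f.fiberι (f.base x)) := by rw [Scheme.Hom.range_fiberι]; exact hpz
    have hemb := (f.fiberι (f.base x)).isEmbedding
    have hU := hopen v (specializes_iff_mem_closure.1 (hemb.isInducing.specializes_iff.1 (by
        rw [hv, Scheme.Hom.fiberι_asFiber]; exact hzx))) (fun v' hv' => hemb.injective (by
      rw [hv]
      refine hm _ ?_ ?_
      · rw [← hv]; exact (specializes_iff_mem_closure.2 hv').map (f.fiberι (f.base x)).continuous
      · exact (FlatDvr.fiberι_apply_eq f v').trans hpz.symm))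
    exact hU _ τ z hv.symm
  · exact UnivOpen.isReduced_fibre_baseChange f τ hτ (f.asFiber x) hred w
      (by rw [Scheme.Hom.fiberι_asFiber]; exact hx')

/-- every maximal generisation passes through the generic point of the fibre -/
theorem maximal_specializes_fibMax (x : X) (hopen : OpenAtGeneric f x)
    (hint : FBase.IsGeomPtIntegralAt (f.fiberToSpecResidueField (f.base x)) (f.asFiber x))
    {q : X} (hq : q ⤳ x) (hqmax : ∀ y, y ⤳ q → y = q)
    {z : X} (hz : z ⤳ x) (hfz : f z = f x) (hzmax : FibDim.FibMax f z) : q ⤳ z := by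
  haveI : IsLocallyNoetherian X := LocallyOfFiniteType.isLocallyNoetherian f
  obtain ⟨R, _, _, _, i, k, hic, hk, hki⟩ := AlgSpVal.exists_dvr_path_field (𝟙 X) q x hq
  let τ : Spec (CommRingCat.of R) ⟶ Y := i ≫ f
  let Q : pullback f τ ⟶ Spec (CommRingCat.of R) := pullback.snd f τ
  let p := pullback.fst f τ
  let s : Spec (CommRingCat.of R) ⟶ pullback f τ := pullback.lift i (𝟙 _) (Category.id_comp _).symm
  haveI : LocallyOfFiniteType Q := inferInstanceAs (LocallyOfFiniteType (pullback.snd f τ))
  haveI : IsLocallyNoetherian (pullback f τ) := LocallyOfFiniteType.isLocallyNoetherian Q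
  have hps : s ≫ p = i := pullback.lift_fst _ _ _
  have hQs : s ≫ Q = 𝟙 _ := pullback.lift_snd _ _ _
  have hQ : Q (s (closedPoint R)) = closedPoint R := by rw [← Scheme.Hom.comp_apply, hQs]; rfl
  obtain ⟨w, hw⟩ : s (closedPoint R) ∈ Set.range (Q.fiberι (closedPoint R)) := by
    rw [Scheme.Hom.range_fiberι]; exact hQ
  have hpw : p (Q.fiberι (closedPoint R) w) = x := by rw [hw, ← Scheme.Hom.comp_apply, hps, hic]
  have hτ : τ (closedPoint R) = f x := by
    show f (i (closedPoint R)) = f x
    rw [hic]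
  have hpw' : p (Q.fiberι (closedPoint R) w) = f.fiberι (f x) (f.asFiber x) := by
    rw [Scheme.Hom.fiberι_asFiber]; exact hpw
  -- the local ring at the point of the special fibre is a domain
  haveI : IsDomain ((Q.fiber (closedPoint R)).presheaf.stalk w) :=
    isDomain_of_geomPtIntegral (isGeomPtIntegralAt_baseChange f τ hτ (f.asFiber x) hint w hpw')
  have hflat := flat_stalkMap_dvr f x hopen (isGeomReducedAt_of_geomPtIntegral hint) τ hτ w hpw
  let x' := Q.fiberι (closedPoint R) w
  have hx'c : Q x' = closedPoint R := FibDim.fiber_apply_fiberι Q w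
  haveI hdom : IsDomain ((pullback f τ).presheaf.stalk x') := by
    refine isDomain_of_regular_quotient (H23.SpGysin.πx Q x') ?_ ?_ _
      ((Q.fiberι (closedPoint R)).stalkMap_surjective w) (H23.SpGysin.ker_fiberι_s Q w)
    · exact Ideal.Quotient.eq_zero_iff_mem.1 ((H23.SpGysin.residue_πx_eq_zero_iff Q x').2 hx'c)
    · letI := (Q.stalkMap x').hom.toAlgebra
      haveI := H23.SpGysin.isDomain_stalk (R := R) (Q x')
      haveI : Module.Flat ((Spec (CommRingCat.of R)).presheaf.stalk (Q x')) ((pullback f τ).presheaf.stalk x') := hflat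
      intro b c h
      refine H23.SpGysin.injective_smul_of_flat (A := (Spec (CommRingCat.of R)).presheaf.stalk (Q x'))
        (H23.SpGysin.unif_germ_ne_zero (Q x')) ?_
      beta_reduce
      rw [Algebra.smul_def, Algebra.smul_def]
      exact h
  obtain ⟨G, hGx, hG⟩ := (H23.FinCondSch.exists_top_generization_iff x').1
    (by rw [nilradical_eq_zero]; exact Ideal.isPrime_bot)
  -- the generic point of the path
  let η' := Spec.map (CommRingCat.ofHom (algebraMap R (FractionRing R))) (closedPoint (FractionRing R))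
  have hη' : i η' = q := by
    have h := congrArg (fun m : Spec (CommRingCat.of (FractionRing R)) ⟶ X => m (closedPoint (FractionRing R))) hki
    simp only [Category.comp_id] at h
    exact h.symm.trans hk
  have hξ : s η' ⤳ x' := by
    rw [show x' = s (closedPoint R) from hw]
    exact (IsLocalRing.specializes_closedPoint η').map s.continuous
  have hpG : p G = q := by
    refine hqmax _ ?_
    have h := (hG _ hξ).map p.continuous
    rwa [show p (s η') = q by rw [← Scheme.Hom.comp_apply, hps, hη']] at h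
  obtain ⟨z', hz', hz'f, hz'max⟩ := exists_fibMax Q x'
  have hpz' : p z' = z := by
    have hm := FibDim.fibMax_of_baseChange (IsPullback.of_hasPullback f τ) hz'max
    refine fibMax_unique f x (isDomain_of_geomPtIntegral hint) ((hz'.map p.continuous).trans (specializes_of_eq hpw))
      ?_ hm hz hfz hzmax
    rw [← Scheme.Hom.comp_apply, pullback.condition, Scheme.Hom.comp_apply, hz'f.trans hx'c, hτ]
  rw [← hpG, ← hpz']
  exact (hG _ hz').map p.continuous

/-- a maximal point of a scheme over a field which is geometrically reduced there is smooth -/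
theorem mem_smoothLocus_of_maximal {k : Type u} [Field k] {Z : Scheme.{u}} (p : Z ⟶ Spec (CommRingCat.of k))
    [LocallyOfFinitePresentation p] (w : Z) (hw : FBase.IsGeomReducedAt p w) (hmax : ∀ y, y ⤳ w → y = w) :
    w ∈ p.smoothLocus := by
  haveI : IsLocallyNoetherian Z := LocallyOfFiniteType.isLocallyNoetherian p
  haveI : _root_.IsReduced (Z.presheaf.stalk w) := by
    let π := FBase.bcπ p k
    haveI : IsIso π := by
      have : IsIso (Spec.map (CommRingCat.ofHom (algebraMap k k))) := by
        rw [show CommRingCat.ofHom (algebraMap k k) = 𝟙 _ from rfl, Spec.map_id]; infer_instance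
      exact inferInstanceAs (IsIso (pullback.fst _ _))
    obtain ⟨w', hw'⟩ := π.surjective w
    haveI := hw k w' hw'
    subst hw'
    exact isReduced_of_injective (π.stalkMap w').hom
      (ConcreteCategory.bijective_of_isIso (π.stalkMap w')).1
  obtain ⟨U, hwU, hU⟩ := H23.FinCondSch.exists_reduced_nhd w
  obtain ⟨V, hV, hwV, hVU⟩ := exists_isAffineOpen_mem_and_subset hwU
  haveI := hU
  haveI : IsReduced (V : Scheme.{u}) := isReduced_of_isOpenImmersion (Z.homOfLE hVU)
  haveI : IsAffine (V : Scheme.{u}) := hV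
  haveI : IsLocallyNoetherian (V : Scheme.{u}) := LocallyOfFiniteType.isLocallyNoetherian V.ι
  haveI : NoetherianSpace (V : Scheme.{u}) := by
    haveI : IsNoetherian (V : Scheme.{u}) := {}
    infer_instance
  let w₀ : (V : Scheme.{u}) := ⟨w, hwV⟩
  have hmax₀ : ∀ y : (V : Scheme.{u}), y ⤳ w₀ → y = w₀ := fun y hy =>
    V.ι.isEmbedding.injective (hmax _ (hy.map V.ι.continuous))
  let C := ⋃₀ (irreducibleComponents (V : Scheme.{u}) \ {irreducibleComponent w₀})
  let O : (V : Scheme.{u}).Opens := ⟨Cᶜ, by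
    show IsOpen (⋃₀ (irreducibleComponents (V : Scheme.{u}) \ {irreducibleComponent w₀}))ᶜ
    rw [Set.sUnion_eq_biUnion, isOpen_compl_iff]
    exact NoetherianSpace.finite_irreducibleComponents.sdiff.isClosed_biUnion
      fun W hW => isClosed_of_mem_irreducibleComponents W hW.1⟩
  have hclw : ∀ T ∈ irreducibleComponents (V : Scheme.{u}), w₀ ∈ T → T = closure {w₀} := fun T hT hwT => by
    have hg := hT.1.isGenericPoint_genericPoint (isClosed_of_mem_irreducibleComponents T hT)
    rw [← hg.def, hmax₀ _ (hg.specializes hwT)]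
  have hwO : w₀ ∈ O := fun hC => by
    obtain ⟨T, ⟨hT, hTne⟩, hwT⟩ := hC
    exact hTne ((hclw T hT hwT).trans
      (hclw _ (irreducibleComponent_mem_irreducibleComponents w₀) mem_irreducibleComponent).symm)
  let j : (O : Scheme.{u}) ⟶ Z := O.ι ≫ V.ι
  haveI : IsOpenImmersion j := inferInstanceAs (IsOpenImmersion (O.ι ≫ V.ι))
  haveI : IsReduced (O : Scheme.{u}) := isReduced_of_isOpenImmersion O.ι
  haveI : IsLocallyNoetherian (O : Scheme.{u}) := LocallyOfFiniteType.isLocallyNoetherian O.ι
  haveI : NoetherianSpace (O : Scheme.{u}) :=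
    inferInstanceAs (NoetherianSpace ((O : Set (V : Scheme.{u})) : Type u))
  let w₁ : (O : Scheme.{u}) := ⟨w₀, hwO⟩
  letI : (O : Scheme.{u}).Over (Spec (CommRingCat.of k)) := ⟨j ≫ p⟩
  have hgen : ∀ η : (O : Scheme.{u}), (∀ y, y ⤳ η → y = η) → η = w₁ := by
    intro η hη
    refine O.ι.isEmbedding.injective ?_
    obtain ⟨m, hm, hmm⟩ := FibDim.exists_maximal_generization (O.ι η)
    have hmO : m ∈ O := hm.mem_open O.2 η.2
    obtain rfl : (⟨m, hmO⟩ : (O : Scheme.{u})) = η := hη _ (O.ι.isEmbedding.isInducing.specializes_iff.1 hm)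
    show m = w₀
    by_contra hne
    refine hmO ⟨closure {m}, ⟨GeomField.genericPoint_of_maximal hmm, fun e => hne ?_⟩, subset_closure rfl⟩
    rw [Set.mem_singleton_iff, hclw _ (irreducibleComponent_mem_irreducibleComponents w₀) mem_irreducibleComponent] at e
    exact ((specializes_iff_closure_subset.2 e.ge).antisymm (specializes_iff_closure_subset.2 e.le)).eq
  have hgr : ∀ u : (O : Scheme.{u}), Curv2.IsGeomReducedAt k (O : Scheme.{u}) u := fun u => by
    refine GeomField.isGeomReducedAt_of_generic u fun η _ hη => ?_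
    rw [hgen η hη]
    exact (AlgSpDec.GeomRed.isGeomReducedAt_comp_etale j p w₁).2 hw
  haveI : GeometricallyReduced (j ≫ p) := GeomField.geometricallyReduced_iff.2 hgr
  haveI : LocallyOfFinitePresentation (j ≫ p) := inferInstance
  obtain ⟨v, hv, hvs⟩ := H0FBC.exists_smooth_point (j ≫ p) w₁
  have hTw : irreducibleComponent w₁ = closure {w₁} := by
    have hT := irreducibleComponent_mem_irreducibleComponents w₁
    have hg := hT.1.isGenericPoint_genericPoint (isClosed_of_mem_irreducibleComponents _ hT)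
    have hmax₁ : ∀ y : (O : Scheme.{u}), y ⤳ w₁ → y = w₁ := fun y hy =>
      O.ι.isEmbedding.injective (hmax₀ _ (hy.map O.ι.continuous))
    rw [← hg.def, hmax₁ _ (hg.specializes mem_irreducibleComponent)]
  have hwv : w₁ ⤳ v := specializes_iff_mem_closure.2 (hTw ▸ hv)
  have h1 : w₁ ∈ (j ≫ p).smoothLocus := hwv.mem_open (j ≫ p).smoothLocus.2 hvs
  rw [← Scheme.Hom.preimage_smoothLocus_eq] at h1
  exact h1

/-- smooth morphisms preserve geometrically unibranch points -/
theorem isGeomUnibranch_of_smooth {W S : Scheme.{u}} (g : W ⟶ S) [Smooth g] (x : W)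
    (hS : CAlg2.IsGeomUnibranch (S.presheaf.stalk (g x))) : CAlg2.IsGeomUnibranch (W.presheaf.stalk x) := by
  obtain ⟨U, hU, V, hV, hxV, e, hstd⟩ := Smooth.exists_isStandardSmooth g x
  obtain ⟨n, φ, hC, hφ⟩ := hstd.exists_etale_mvPolynomial
  let R : Type u := MvPolynomial (ULift.{u} (Fin n)) Γ(S, U)
  let ren : R ≃+* MvPolynomial (Fin n) Γ(S, U) :=
    (MvPolynomial.renameEquiv Γ(S, U) Equiv.ulift.{u, 0}).toRingEquiv
  let φ' : R →+* Γ(W, V) := φ.comp ren.toRingHom
  have hC' : φ'.comp MvPolynomial.C = (g.appLE U V e).hom := by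
    ext a
    rw [← hC]
    show φ (MvPolynomial.rename _ (MvPolynomial.C a)) = φ (MvPolynomial.C a)
    rw [MvPolynomial.rename_C]
  have hφ' : φ'.Etale := RingHom.Etale.respectsIso.2 φ ren hφ
  letI : Algebra R Γ(W, V) := φ'.toAlgebra
  haveI : Algebra.Etale R Γ(W, V) := hφ'
  let q := (hV.primeIdealOf ⟨x, hxV⟩).asIdeal
  let P : Ideal R := q.comap (algebraMap R Γ(W, V))
  have hp : (hU.primeIdealOf ⟨g x, e hxV⟩).asIdeal = P.comap MvPolynomial.C := by
    show _ = Ideal.comap MvPolynomial.C (Ideal.comap φ' q)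
    rw [Ideal.comap_comap, hC']
    exact (congr($(IsAffineOpen.comap_primeIdealOf_appLE U hU V hV e hxV).1)).symm
  exact UnibEtale.isGeomUnibranch_of_ringEquiv (UnibEtale.stalkEquiv hV hxV).symm
    (UnibEtale.atPrime_of_etale R Γ(W, V) P q rfl
      (UnivOpen.isGeomUnibranch_localization_mvPolynomial _ P _ hp
        (UnibEtale.isGeomUnibranch_of_ringEquiv (UnibEtale.stalkEquiv hU (e hxV)) hS))).1

/-- at the generic point of a geometrically reduced fibre over a geometrically unibranch point only one component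
passes -/
theorem maximal_unique_at_fibMax (z : X) (hzmax : FibDim.FibMax f z) (hopen : EGA43.IsUnivOpenAt f z)
    (hred : FBase.IsGeomReducedAt (f.fiberToSpecResidueField (f.base z)) (f.asFiber z))
    (hY : CAlg2.IsGeomUnibranch (Y.presheaf.stalk (f.base z))) {q₁ q₂ : X} (h₁ : q₁ ⤳ z)
    (m₁ : ∀ y, y ⤳ q₁ → y = q₁) (h₂ : q₂ ⤳ z) (m₂ : ∀ y, y ⤳ q₂ → y = q₂) : q₁ = q₂ := by
  let S : Closeds Y := ⊤
  let Y₀ := (Scheme.IdealSheafData.vanishingIdeal S).subscheme
  let ι : Y₀ ⟶ Y := (Scheme.IdealSheafData.vanishingIdeal S).subschemeι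
  haveI : IsReduced Y₀ := H23.RedSub.isReduced_vanishingIdeal S
  haveI : Surjective ι := ⟨fun y => by
    have h : Set.range ι = (Set.univ : Set Y) := by
      rw [Scheme.IdealSheafData.range_subschemeι]
      exact Scheme.IdealSheafData.coe_support_vanishingIdeal S
    exact h.ge (Set.mem_univ y)⟩
  haveI : IsClosedImmersion ι := inferInstanceAs (IsClosedImmersion (Scheme.IdealSheafData.vanishingIdeal S).subschemeι)
  haveI : IsLocallyNoetherian Y₀ := LocallyOfFiniteType.isLocallyNoetherian ι
  let p := pullback.fst f ι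
  let f₀ : pullback f ι ⟶ Y₀ := pullback.snd f ι
  haveI : LocallyOfFiniteType f₀ := inferInstanceAs (LocallyOfFiniteType (pullback.snd f ι))
  haveI : IsLocallyNoetherian (pullback f ι) := LocallyOfFiniteType.isLocallyNoetherian f₀
  haveI : Surjective p := inferInstanceAs (Surjective (pullback.fst f ι))
  haveI : IsClosedImmersion p := inferInstanceAs (IsClosedImmersion (pullback.fst f ι))
  obtain ⟨z₀, hz₀⟩ := p.surjective z
  have hι : ι (f₀ z₀) = f z := by rw [← Scheme.Hom.comp_apply, ← pullback.condition, Scheme.Hom.comp_apply, hz₀]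
  have hu : EGA43.IsUnivOpenAt f₀ z₀ := isUnivOpenAt_baseChange f ι z₀ (by rw [hz₀]; exact hopen)
  have hm₀ : FibDim.FibMax f₀ z₀ := fun y hy hfy => p.isEmbedding.injective (by
    rw [hz₀]
    refine hzmax _ (hz₀ ▸ hy.map p.continuous) ?_
    rw [← Scheme.Hom.comp_apply, pullback.condition, Scheme.Hom.comp_apply, hfy, hι])
  have hred₀ : FBase.IsGeomReducedAt (f₀.fiberToSpecResidueField (f₀.base z₀)) (f₀.asFiber z₀) :=
    isGeomReducedAt_baseChange f ι hι (f.asFiber z) hred (f₀.asFiber z₀) (by
      rw [Scheme.Hom.fiberι_asFiber, Scheme.Hom.fiberι_asFiber, hz₀])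
  obtain ⟨U, hzU, hUf, -⟩ := GeomRedFlat5.exists_flat_reduced_nhd f₀ z₀ (fun v hv hvmax => by
      have h : f₀.fiberι (f₀ z₀) v = z₀ := hm₀ _ (by
        have := (specializes_iff_mem_closure.2 hv).map (f₀.fiberι (f₀ z₀)).continuous
        rwa [Scheme.Hom.fiberι_asFiber] at this) (FibDim.fiber_apply_fiberι f₀ v)
      rw [h]
      exact hu) hred₀ inferInstance
  haveI := hUf
  let g : (U : Scheme.{u}) ⟶ Y₀ := U.ι ≫ f₀
  haveI : LocallyOfFiniteType g := inferInstance
  haveI : LocallyOfFinitePresentation g := GeomRedFlat5.lfp_of_noetherian g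
  let u₀ : (U : Scheme.{u}) := ⟨z₀, hzU⟩
  haveI : LocallyOfFinitePresentation (g.fiberToSpecResidueField (g u₀)) :=
    MorphismProperty.pullback_snd g (Y₀.fromSpecResidueField (g u₀)) inferInstance
  have hsm : g.asFiber u₀ ∈ (g.fiberToSpecResidueField (g u₀)).smoothLocus := by
    let m : g.fiber (g u₀) ⟶ f₀.fiber (f₀ z₀) :=
      pullback.map g _ f₀ _ U.ι (𝟙 _) (𝟙 _) (Category.comp_id _) (by rw [Category.comp_id]; exact (Category.id_comp _).symm)
    have hid : IsOpenImmersion (𝟙 (Spec (Y₀.residueField (g u₀)))) := inferInstance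
    haveI : IsOpenImmersion m := MorphismProperty.pullbackMap (P := @IsOpenImmersion)
      (f := g) (g := Y₀.fromSpecResidueField (g u₀)) (f' := f₀) (g' := Y₀.fromSpecResidueField (f₀ z₀))
      (i₁ := U.ι) (i₂ := 𝟙 _) inferInstance hid rfl (Category.id_comp _).symm
    have hm₁ : m ≫ f₀.fiberToSpecResidueField (f₀ z₀) = g.fiberToSpecResidueField (g u₀) :=
      (pullback.lift_snd _ _ _).trans (Category.comp_id _)
    have hm₂ : m (g.asFiber u₀) = f₀.asFiber z₀ := (f₀.fiberι (f₀ z₀)).isEmbedding.injective (by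
      rw [Scheme.Hom.fiberι_asFiber, ← Scheme.Hom.comp_apply,
        show m ≫ f₀.fiberι (f₀ z₀) = g.fiberι (g u₀) ≫ U.ι from pullback.lift_fst _ _ _,
        Scheme.Hom.comp_apply, Scheme.Hom.fiberι_asFiber]
      rfl)
    refine @mem_smoothLocus_of_maximal (Y₀.residueField (g u₀)) _ _ (g.fiberToSpecResidueField (g u₀))
      ‹LocallyOfFinitePresentation (g.fiberToSpecResidueField (g u₀))› (g.asFiber u₀) ?_ fun y hy => (g.fiberι (g u₀)).isEmbedding.injective ?_
    · rw [← hm₁]
      exact (AlgSpDec.GeomRed.isGeomReducedAt_comp_etale m _ _).2 (by rw [hm₂]; exact hred₀)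
    · rw [Scheme.Hom.fiberι_asFiber]
      refine U.ι.isEmbedding.injective (hm₀ _ ?_ (FibDim.fiber_apply_fiberι g y))
      have := (hy.map (g.fiberι (g u₀)).continuous).map U.ι.continuous
      rwa [Scheme.Hom.fiberι_asFiber] at this
  obtain ⟨W, hzW, hW⟩ := H0FBC.exists_smooth_nhd_of_fibre g (g u₀) (g.asFiber u₀) hsm
  rw [Scheme.Hom.fiberι_asFiber] at hzW
  haveI := hW
  -- the base stalk
  have hY₀ : CAlg2.IsGeomUnibranch (Y₀.presheaf.stalk (f₀ z₀)) := by
    refine isGeomUnibranch_of_surjective (ι.stalkMap (f₀ z₀)).hom (ι.stalkMap_surjective _)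
      (ker_stalkMap_le_nilradical ι _) ?_
    have e : ∀ y : Y, y = f z → CAlg2.IsGeomUnibranch (Y.presheaf.stalk y) := fun y hy => by subst hy; exact hY
    exact e _ hι
  let z₁ : (W : Scheme.{u}) := ⟨u₀, hzW⟩
  have hgu : CAlg2.IsGeomUnibranch ((W : Scheme.{u}).presheaf.stalk z₁) := isGeomUnibranch_of_smooth (W.ι ≫ g) z₁ hY₀
  obtain ⟨ξ, hξ, hξtop⟩ := (H23.FinCondSch.exists_top_generization_iff z₁).1
    ((Ideal.Quotient.isDomain_iff_prime _).1 hgu.1.1)
  have key : ∀ q : X, q ⤳ z → (∀ y, y ⤳ q → y = q) → p (U.ι (W.ι ξ)) = q := by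
    intro q h m
    obtain ⟨q₀, rfl⟩ := p.surjective q
    have hq₀ : q₀ ⤳ z₀ := p.isEmbedding.isInducing.specializes_iff.1 (by rw [hz₀]; exact h)
    have hqU : q₀ ∈ U := hq₀.mem_open U.2 hzU
    have hqU' : (⟨q₀, hqU⟩ : (U : Scheme.{u})) ⤳ u₀ := U.ι.isEmbedding.isInducing.specializes_iff.1 hq₀
    have hqW : (⟨q₀, hqU⟩ : (U : Scheme.{u})) ∈ W := hqU'.mem_open W.2 hzW
    exact m _ (((hξtop ⟨_, hqW⟩ (W.ι.isEmbedding.isInducing.specializes_iff.1 hqU')).map W.ι.continuous).map
      U.ι.continuous |>.map p.continuous)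
  rw [← key q₁ h₁ m₁, key q₂ h₂ m₂]

/-- **EGA IV 14.4.9** -/
theorem unique_component_and_flat (x : X) (hopen : OpenAtGeneric f x)
    (hint : FBase.IsGeomPtIntegralAt (f.fiberToSpecResidueField (f.base x)) (f.asFiber x))
    (hY : CAlg2.IsGeomUnibranch (Y.presheaf.stalk (f.base x))) :
    (∃! Z : Set X, Z ∈ irreducibleComponents (X : Type u) ∧ x ∈ Z) ∧
      (IsDomain (Y.presheaf.stalk (f.base x)) → IsDomain (X.presheaf.stalk x) ∧ (f.stalkMap x).hom.Flat) := by
  haveI : IsLocallyNoetherian X := LocallyOfFiniteType.isLocallyNoetherian f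
  have hred := isGeomReducedAt_of_geomPtIntegral hint
  obtain ⟨z, hz, hfz, hzmax⟩ := exists_fibMax f x
  obtain ⟨v, hv⟩ : z ∈ Set.range (f.fiberι (f x)) := by rw [Scheme.Hom.range_fiberι]; exact hfz
  have hvx : v ⤳ f.asFiber x := (f.fiberι (f x)).isEmbedding.isInducing.specializes_iff.1 (by
    rw [hv, Scheme.Hom.fiberι_asFiber]; exact hz)
  have huz : EGA43.IsUnivOpenAt f z := by
    rw [← hv]
    refine hopen v (specializes_iff_mem_closure.1 hvx) fun v' hv' => (f.fiberι (f x)).isEmbedding.injective ?_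
    have h' := (specializes_iff_mem_closure.2 hv').map (f.fiberι (f x)).continuous
    rw [hv] at h' ⊢
    exact hzmax _ h' ((FibDim.fiber_apply_fiberι f v').trans hfz.symm)
  have hredv : FBase.IsGeomReducedAt (f.fiberToSpecResidueField (f x)) v := by
    letI : (f.fiber (f x)).Over (Spec (CommRingCat.of (Y.residueField (f x)))) := ⟨f.fiberToSpecResidueField (f x)⟩
    exact GeomField.isGeomReducedAt_of_specializes (k := Y.residueField (f x)) hvx hred
  have hredz : FBase.IsGeomReducedAt (f.fiberToSpecResidueField (f.base z)) (f.asFiber z) := by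
    have key : ∀ (y : Y) (v : ↥(f.fiber y)), FBase.IsGeomReducedAt (f.fiberToSpecResidueField y) v →
        FBase.IsGeomReducedAt (f.fiberToSpecResidueField (f.base (f.fiberι y v))) (f.asFiber (f.fiberι y v)) := by
      intro y v hv
      have hz := FibDim.fiber_apply_fiberι f v
      generalize hx : f.fiberι y v = x at hz
      subst hz
      obtain rfl : v = f.asFiber x := (f.fiberι (f x)).isEmbedding.injective (hx.trans (f.fiberι_asFiber x).symm)
      exact hv
    rw [← hv]
    exact key _ v hredv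
  have hYz : CAlg2.IsGeomUnibranch (Y.presheaf.stalk (f.base z)) := by
    have e : ∀ y : Y, y = f x → CAlg2.IsGeomUnibranch (Y.presheaf.stalk y) := fun y hy => by subst hy; exact hY
    exact e _ hfz
  have huniq : ∀ q₁ q₂ : X, q₁ ⤳ x → (∀ y, y ⤳ q₁ → y = q₁) → q₂ ⤳ x → (∀ y, y ⤳ q₂ → y = q₂) → q₁ = q₂ :=
    fun q₁ q₂ h₁ m₁ h₂ m₂ => maximal_unique_at_fibMax f z hzmax huz hredz hYz
      (maximal_specializes_fibMax f x hopen hint h₁ m₁ hz hfz hzmax) m₁
      (maximal_specializes_fibMax f x hopen hint h₂ m₂ hz hfz hzmax) m₂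
  obtain ⟨ξ, hξ, hξmax⟩ := FibDim.exists_maximal_generization x
  refine ⟨⟨closure {ξ}, ⟨GeomField.genericPoint_of_maximal hξmax, specializes_iff_mem_closure.1 hξ⟩,
    fun T hT => ?_⟩, fun hdom => ?_⟩
  · obtain ⟨a, rfl, ha⟩ := H23.FinCondSch.eq_closure_of_mem_irreducibleComponents hT.1
    rw [huniq a ξ (specializes_iff_mem_closure.2 hT.2) (fun y hy => ((ha y hy).antisymm hy).eq.symm) hξ hξmax]
  · haveI := hdom
    obtain ⟨U, hxU, -, hUr⟩ := GeomRedFlat5.exists_flat_reduced_nhd f x hopen hred inferInstance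
    haveI := hUr
    refine ⟨?_, FlatDvrVC5.flat_stalkMap_of_univOpen f x hopen hred inferInstance⟩
    haveI : _root_.IsReduced (X.presheaf.stalk x) :=
      isReduced_of_injective (U.ι.stalkMap ⟨x, hxU⟩).hom (ConcreteCategory.bijective_of_isIso (U.ι.stalkMap ⟨x, hxU⟩)).1
    have hp : (nilradical (X.presheaf.stalk x)).IsPrime :=
      (H23.FinCondSch.exists_top_generization_iff x).2 ⟨ξ, hξ, fun η hη => by
        obtain ⟨m, hm, hmm⟩ := FibDim.exists_maximal_generization η
        rw [← huniq m ξ (hm.trans hη) hmm hξ hξmax]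
        exact hm⟩
    rw [nilradical_eq_zero] at hp
    exact IsDomain.of_bot_isPrime _

end Groth.Agent.UnibFibre

end
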