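import Groth.Agent.UnibFibre.OpenAtScheme
import Groth.Agent.UnivOpen.Chevalley
import Groth.Agent.UnivOpen.AffineSpaceUnibranch
import Groth.Agent.S3386

/-!
# Chevalley's criterion for irreducible source and base, without noetherian hypotheses (EGA IV 14.4.4)
-/

noncomputable section

set_option autoImplicit false
set_option linter.style.haveILetI false
set_option linter.unusedSectionVars false
set_option backward.isDefEq.respectTransparency.types false
set_option maxHeartbeats 1000000
set_option synthInstance.maxHeartbeats 400000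

universe u

open CategoryTheory CategoryTheory.Limits AlgebraicGeometry Topology

namespace Groth.Agent.UnibFibre

variable {X Y : Scheme.{u}}

/-- quasi-finite dominant morphisms to an irreducible geometrically unibranch scheme are universally open -/
theorem universallyOpen_of_quasiFinite (g : X ⟶ Y) [IrreducibleSpace X] [IrreducibleSpace Y] [LocallyQuasiFinite g]
    [LocallyOfFiniteType g] [IsDominant g] (hY : ∀ y : Y, CAlg2.IsGeomUnibranch (Y.presheaf.stalk y)) :
    UniversallyOpen g := by
  refine (UnivOpen.universallyOpen_iff_forall g).2 fun x => UnivOpen.isUnivOpenAt_of_affineSpace g x fun m x'' _ => ?_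
  let π := (𝔸(ULift.{u} (Fin m); Y) ↘ Y)
  let P := pullback g π
  let e : P ≅ 𝔸(ULift.{u} (Fin m); X) :=
    (IsPullback.of_hasPullback g π).flip.isoIsPullback _ _ (AffineSpace.isPullback_map g)
  haveI : IrreducibleSpace ↥𝔸(ULift.{u} (Fin m); X) := inferInstance
  haveI : IrreducibleSpace ↥P := by
    haveI : Nonempty ↥P := ⟨x''⟩
    have hpre : PreirreducibleSpace ↥P := ⟨by
      have h := (PreirreducibleSpace.isPreirreducible_univ (X := ↥𝔸(ULift.{u} (Fin m); X))).image e.inv
        e.inv.continuous.continuousOn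
      rwa [Set.image_univ, show Set.range e.inv = Set.univ from e.inv.surjective.range_eq] at h⟩
    exact { hpre with toNonempty := ‹_› }
  haveI : LocallyQuasiFinite (pullback.snd g π) := inferInstance
  haveI : LocallyOfFiniteType (pullback.snd g π) := inferInstance
  haveI := UnivOpen.universallyOpen_affineSpace (Y := Y) (ULift.{u} (Fin m))
  have hd : DenseRange (pullback.snd g π).base := by
    show Dense (Set.range (pullback.snd g π))
    rw [Scheme.Pullback.range_snd]
    exact g.denseRange.preimage π.isOpenMap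
  refine OpenAt.isOpenAt_of_quasiFinite (pullback.snd g π) hd x'' ?_
    (UnivOpen.isGeomUnibranch_affineSpace _ _ (hY _)).1
  refine le_antisymm ?_ (pure_le_nhdsWithin rfl)
  have hdisc := (pullback.snd g π).isDiscrete_preimage_singleton (pullback.snd g π x'')
  intro s hs
  rw [Filter.mem_pure] at hs
  have hx : {x''} ∈ nhdsWithin x'' ((pullback.snd g π) ⁻¹' {pullback.snd g π x''}) := by
    haveI := hdisc.to_subtype
    rw [mem_nhdsWithin]
    obtain ⟨O, hO, hOe⟩ := isOpen_induced_iff.1
      (isOpen_discrete ({⟨x'', rfl⟩} : Set ↥((pullback.snd g π) ⁻¹' {pullback.snd g π x''})))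
    refine ⟨O, hO, ?_, fun w ⟨hwO, hw⟩ => ?_⟩
    · have : (⟨x'', rfl⟩ : ↥((pullback.snd g π) ⁻¹' {pullback.snd g π x''})) ∈ Subtype.val ⁻¹' O := hOe.ge rfl
      exact this
    · exact congrArg Subtype.val (hOe.le (show (⟨w, hw⟩ : ↥((pullback.snd g π) ⁻¹' {pullback.snd g π x''})) ∈
        Subtype.val ⁻¹' O from hwO))
  exact Filter.mem_of_superset hx (Set.singleton_subset_iff.2 hs)

/-- **EGA IV 14.4.4** -/
theorem universallyOpen_of_fibreDim_const [IrreducibleSpace X] [IrreducibleSpace Y]
    (hY : ∀ y : Y, CAlg2.IsGeomUnibranch (Y.presheaf.stalk y)) (f : X ⟶ Y) [LocallyOfFiniteType f] [IsDominant f]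
    (h : ∀ x : X, FlatMor.fibreDimAt f x = topologicalKrullDim ↥(f.fiber (f.base (genericPoint X)))) :
    UniversallyOpen f := by
  have hmax : ∀ z, z ⤳ genericPoint X → z = genericPoint X := fun z hz =>
    (hz.antisymm ((genericPoint_spec X).specializes (Set.mem_univ z))).eq
  have hd : DenseRange f.base := f.denseRange
  have hgen : f (genericPoint X) = genericPoint Y := by
    have h1 : IsGenericPoint (f (genericPoint X)) Set.univ := by
      rw [IsGenericPoint, ← Set.image_singleton, ← closure_image_closure f.continuous, (genericPoint_spec X).def,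
        Set.image_univ, hd.closure_range]
    exact h1.eq (genericPoint_spec Y)
  refine (UnivOpen.universallyOpen_iff_forall f).2 fun x => ?_
  have heq : EGA43.IsEquidimAt f x := by
    refine (FibDim.isEquidimAt_iff f x).2 ⟨FibDim.rd f (genericPoint X), ⊤, trivial, fun η _ hη => ?_, fun z _ hz => ?_⟩
    · obtain rfl : η = genericPoint X := (hη _ ((genericPoint_spec X).specializes (Set.mem_univ η))).symm
      rw [hgen]
      exact ⟨fun y hy => (hy.antisymm ((genericPoint_spec Y).specializes (Set.mem_univ y))).eq,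
        (genericPoint_spec Y).specializes (Set.mem_univ _)⟩
    · have h1 := (h z).trans (h (genericPoint X)).symm
      rw [FibDim.fibreDimAt_eq_rd f hz, FibDim.fibreDimAt_eq_rd f (FibDim.fibMax_of_maximal f hmax)] at h1
      exact_mod_cast h1
  obtain ⟨e, U, g, hxU, hg, hgqf, hcomp⟩ := (S3386.result f x).1 heq
  haveI := hgqf
  haveI : Nonempty ↥(U : Scheme.{u}) := ⟨⟨x, hxU⟩⟩
  haveI : IrreducibleSpace ↥(U : Scheme.{u}) := by
    have hU : IsPreirreducible ((⟨U.1, U.2⟩ : TopologicalSpace.Opens X) : Set X) :=
      (PreirreducibleSpace.isPreirreducible_univ (X := ↥X)).open_subset U.2 (Set.subset_univ _)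
    haveI : PreirreducibleSpace ↥(U : Scheme.{u}) := Subtype.preirreducibleSpace hU
    exact { ‹PreirreducibleSpace ↥(U : Scheme.{u})› with toNonempty := ‹_› }
  haveI : LocallyOfFiniteType (g ≫ (𝔸(ULift.{u} (Fin e); Y) ↘ Y)) := by rw [hg]; infer_instance
  haveI : LocallyOfFiniteType g := locallyOfFiniteType_of_comp g (𝔸(ULift.{u} (Fin e); Y) ↘ Y)
  haveI : IsDominant g := ⟨by
    haveI : IrreducibleSpace (↥U : Type u) := ‹IrreducibleSpace ↥(U : Scheme.{u})›
    have h1 := hcomp Set.univ (by rw [irreducibleComponents_eq_singleton (X := (↥U : Type u))]; rfl)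
    rw [irreducibleComponents_eq_singleton, Set.mem_singleton_iff] at h1
    refine dense_iff_closure_eq.2 ?_
    refine Eq.trans (congrArg closure ?_) h1
    exact Set.image_univ.symm⟩
  haveI := universallyOpen_of_quasiFinite g fun y' => UnivOpen.isGeomUnibranch_affineSpace _ y' (hY _)
  haveI := UnivOpen.universallyOpen_affineSpace (Y := Y) (ULift.{u} (Fin e))
  haveI : UniversallyOpen (U.ι ≫ f) := hg ▸ inferInstance
  exact fun Y' τ x' hx' N hN => by
    let j : pullback (U.ι ≫ f) τ ⟶ pullback f τ :=
      pullback.map (U.ι ≫ f) τ f τ U.ι (𝟙 _) (𝟙 _) (by simp) (by simp)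
    haveI : IsOpenImmersion j := inferInstance
    obtain ⟨w, rfl⟩ : x' ∈ Set.range j := by
      rw [Scheme.Pullback.range_map]
      refine ⟨?_, by simp⟩
      show pullback.fst f τ x' ∈ Set.range U.ι
      rw [Scheme.Opens.range_ι, hx']
      exact hxU
    have h1 := (pullback.snd (U.ι ≫ f) τ).isOpenMap.image_mem_nhds (j.continuous.continuousAt.preimage_mem_nhds hN)
    have hj : pullback.snd (U.ι ≫ f) τ = j ≫ pullback.snd f τ := by
      rw [show j ≫ pullback.snd f τ = pullback.snd (U.ι ≫ f) τ ≫ 𝟙 _ from pullback.lift_snd _ _ _, Category.comp_id]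
    rw [hj, Scheme.Hom.comp_apply] at h1
    refine Filter.mem_of_superset h1 ?_
    rintro _ ⟨a, ha, rfl⟩
    exact ⟨j a, ha, rfl⟩

end Groth.Agent.UnibFibre

end
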