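import Groth.Agent.UnibFibre.Main
import Groth.Agent.DimFormula.Equidim
import Groth.Agent.FibDim.GenerizeDim
import Groth.Agent.FibDim.Minimal
import Groth.Agent.CDiv6.Factorial

/-!
# Universally open morphisms with geometrically reduced equidimensional fibres are equidimensional (EGA IV 14.3.x)
-/

noncomputable section

set_option autoImplicit false
set_option linter.style.haveILetI false
set_option linter.unusedSectionVars false
set_option backward.isDefEq.respectTransparency.types false
set_option maxHeartbeats 1000000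
set_option synthInstance.maxHeartbeats 400000

universe u

open CategoryTheory CategoryTheory.Limits AlgebraicGeometry IsLocalRing TopologicalSpace

namespace Groth.Agent.UnibFibre

/-- an element cutting out a reduced quotient which is regular: a component meets the quotient in a component -/
theorem isField_of_minimalPrime {O D : Type u} [CommRing O] [IsLocalRing O] [IsNoetherianRing O] [CommRing D]
    [IsLocalRing D] [_root_.IsReduced D] (π : O) (hπ : π ∈ maximalIdeal O)
    (hreg : Function.Injective fun e : O => π • e) (φ : O →+* D) (hφ : Function.Surjective φ)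
    (hker : RingHom.ker φ = Ideal.span {π}) {P : Ideal O} (hP : P ∈ minimalPrimes O)
    (hm : ∀ q : Ideal O, q.IsPrime → P ≤ q → π ∈ q → q = maximalIdeal O) : IsField D := by
  obtain ⟨hPp, a, ha⟩ : P.IsPrime ∧ ∃ a : O, ∀ r, r ∈ P ↔ r * a = 0 := by
    have hmem : P ∈ associatedPrimes O O := by
      refine Module.associatedPrimes.minimalPrimes_annihilator_subset_associatedPrimes O O ?_
      rwa [Module.annihilator_eq_bot.2 inferInstance]
    obtain ⟨hp, a, ha⟩ := isAssociatedPrime_iff.1 hmem
    exact ⟨hp, a, fun r => by simp [ha, Submodule.mem_colon_singleton]⟩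
  have ha0 : a ≠ 0 := fun h => hPp.ne_top ((Ideal.eq_top_iff_one _).2 ((ha 1).2 (by simp [h])))
  have hstep : ∀ r : O, π * r = 0 → r = 0 := fun r hr => hreg (by simpa using hr)
  obtain ⟨b, hb, hPb⟩ : ∃ b : O, b ∉ Ideal.span {π} ∧ ∀ r ∈ P, r * b = 0 := by
    by_contra h
    push_neg at h
    have hall : ∀ n, ∃ b, a = π ^ n * b ∧ ∀ r ∈ P, r * b = 0 := fun n => by
      induction n with
      | zero => exact ⟨a, by simp, fun r hr => (ha r).1 hr⟩
      | succ n ih =>
        obtain ⟨b, hab, hb⟩ := ih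
        by_cases hmem : b ∈ Ideal.span {π}
        · obtain ⟨c, rfl⟩ := Ideal.mem_span_singleton.1 hmem
          exact ⟨c, by rw [hab]; ring, fun r hr => hstep _ (by rw [← hb r hr]; ring)⟩
        · obtain ⟨r, hr, hne⟩ := h b hmem
          exact absurd (hb r hr) hne
    refine ha0 ?_
    have h0 := Ideal.iInf_pow_eq_bot_of_isLocalRing (I := Ideal.span {π})
      (fun e => (maximalIdeal.isMaximal O).ne_top (top_le_iff.1 (e ▸ (Ideal.span_singleton_le_iff_mem _).2 hπ)))
    rw [← Submodule.mem_bot O, ← h0, Submodule.mem_iInf]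
    intro n
    obtain ⟨b, hb, -⟩ := hall n
    rw [hb, Ideal.span_singleton_pow]
    exact Ideal.mul_mem_right _ _ (Ideal.mem_span_singleton_self _)
  have hb0 : φ b ≠ 0 := fun h => hb (hker ▸ h)
  have hkill : ∀ y ∈ maximalIdeal O, φ y * φ b = 0 := by
    intro y hy
    have hy' : y ∈ (P ⊔ Ideal.span {π}).radical := by
      rw [Ideal.radical_eq_sInf, Ideal.mem_sInf]
      rintro J ⟨hJ, hJp⟩
      rw [hm J hJp (le_sup_left.trans hJ) (hJ (Ideal.mem_sup_right (Ideal.mem_span_singleton_self π)))]
      exact hy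
    obtain ⟨n, hn⟩ := hy'
    obtain ⟨r, hr, s, hs, hrs⟩ := Submodule.mem_sup.1 hn
    have hn' : φ y ^ n * φ b = 0 := by
      rw [← map_pow, ← hrs, map_add, show φ s = 0 from hker.ge hs, add_zero, ← map_mul, hPb r hr, map_zero]
    refine IsNilpotent.eq_zero ⟨n + 1, ?_⟩
    rw [mul_pow, pow_succ' (φ b), ← mul_assoc, show (φ y) ^ (n + 1) * φ b = φ y * (φ y ^ n * φ b) by ring,
      hn', mul_zero, zero_mul]
  rw [IsLocalRing.isField_iff_maximalIdeal_eq, eq_bot_iff]
  intro d hd
  obtain ⟨y, rfl⟩ := hφ d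
  have hy : y ∈ maximalIdeal O := fun hu => hd (hu.map φ)
  by_cases hbu : IsUnit (φ b)
  · exact hbu.mul_left_eq_zero.1 (hkill y hy)
  · exact absurd (IsNilpotent.eq_zero ⟨2, by rw [sq]; exact hkill b fun hu => hbu (hu.map φ)⟩) hb0

variable {X Y : Scheme.{u}} [IsLocallyNoetherian Y] (f : X ⟶ Y) [LocallyOfFiniteType f]

omit [IsLocallyNoetherian Y] [LocallyOfFiniteType f] in
theorem openAtGeneric_iff (x : X) : OpenAtGeneric f x ↔
    ∀ m, m ⤳ x → f m = f x → FibDim.FibMax f m → EGA43.IsUnivOpenAt f m := by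
  constructor
  · intro h m hm hfm hmax
    obtain ⟨v, rfl⟩ : m ∈ Set.range (f.fiberι (f x)) := by rw [Scheme.Hom.range_fiberι]; exact hfm
    refine h v (specializes_iff_mem_closure.1 ?_) ((FibDim.fibMax_fiberι_iff' f v).1 hmax)
    rw [← FibDim.fiberι_specializes_iff f, Scheme.Hom.fiberι_asFiber]
    exact hm
  · intro h v hv hmax
    refine h _ ?_ (FibDim.fiber_apply_fiberι f v) ((FibDim.fibMax_fiberι_iff' f v).2 hmax)
    have := (specializes_iff_mem_closure.2 hv).map (f.fiberι (f x)).continuous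
    rwa [Scheme.Hom.fiberι_asFiber] at this

omit [IsLocallyNoetherian Y] in
theorem isGeomReducedAt_generization {x z : X} (hz : z ⤳ x) (hfz : f z = f x)
    (hred : FBase.IsGeomReducedAt (f.fiberToSpecResidueField (f.base x)) (f.asFiber x)) :
    FBase.IsGeomReducedAt (f.fiberToSpecResidueField (f.base z)) (f.asFiber z) := by
  obtain ⟨v, hv⟩ : z ∈ Set.range (f.fiberι (f x)) := by rw [Scheme.Hom.range_fiberι]; exact hfz
  have hvx : v ⤳ f.asFiber x := (f.fiberι (f x)).isEmbedding.isInducing.specializes_iff.1 (by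
    rw [hv, Scheme.Hom.fiberι_asFiber]; exact hz)
  have key : ∀ (y : Y) (v : ↥(f.fiber y)), FBase.IsGeomReducedAt (f.fiberToSpecResidueField y) v →
      FBase.IsGeomReducedAt (f.fiberToSpecResidueField (f.base (f.fiberι y v))) (f.asFiber (f.fiberι y v)) := by
    intro y v hv
    have hz := FibDim.fiber_apply_fiberι f v
    generalize hx : f.fiberι y v = x at hz
    subst hz
    obtain rfl : v = f.asFiber x := (f.fiberι (f x)).isEmbedding.injective (hx.trans (f.fiberι_asFiber x).symm)
    exact hv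
  rw [← hv]
  refine key _ v ?_
  letI : (f.fiber (f x)).Over (Spec (CommRingCat.of (Y.residueField (f x)))) := ⟨f.fiberToSpecResidueField (f x)⟩
  exact GeomField.isGeomReducedAt_of_specializes (k := Y.residueField (f x)) hvx hred

omit [IsLocallyNoetherian Y] in
theorem exists_bound (x : X) : ∃ N, ∀ z, z ⤳ x → f z = f x → FibDim.rd f z ≤ N := by
  obtain ⟨z₀, -, -, -, he⟩ := FibDim.exists_fibMax_generization f x
  exact ⟨FibDim.rd f z₀, fun z hz hfz => by
    have := FibDim.rd_le_fibreDimAt f hz hfz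
    rw [he] at this
    exact_mod_cast this⟩

theorem cd_le_one {R : Type u} [CommRing R] [IsDomain R] [IsDiscreteValuationRing R]
    (a b : Spec (CommRingCat.of R)) (h : a ⤳ b) : DimFormula.cd a b ≤ 1 := by
  obtain ⟨l, -, -, hl⟩ := DimFormula.exists_cd_series h
  rw [← hl]
  by_contra hlen
  have h01 := l.strictMono (show (⟨0, by omega⟩ : Fin (l.length + 1)) < ⟨1, by omega⟩ by simp [Fin.lt_def])
  have h12 := l.strictMono (show (⟨1, by omega⟩ : Fin (l.length + 1)) < ⟨2, by omega⟩ by simp [Fin.lt_def])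
  have h02 := h01.trans h12
  rcases H23.SpGysin.eq_η_or_eq_s R (l ⟨0, by omega⟩) with e0 | e0 <;>
    rcases H23.SpGysin.eq_η_or_eq_s R (l ⟨1, by omega⟩) with e1 | e1 <;>
      rcases H23.SpGysin.eq_η_or_eq_s R (l ⟨2, by omega⟩) with e2 | e2 <;>
        simp_all [lt_irrefl]

/-- every maximal generisation has relative dimension at least that of the components of the fibre -/
theorem le_rd_of_maximal (x : X) (hopen : OpenAtGeneric f x)
    (hred : FBase.IsGeomReducedAt (f.fiberToSpecResidueField (f.base x)) (f.asFiber x))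
    (e : ℕ) (he : ∀ z, z ⤳ x → f z = f x → FibDim.FibMax f z → e ≤ FibDim.rd f z)
    {q : X} (hq : q ⤳ x) (hqmax : ∀ y, y ⤳ q → y = q) : e ≤ FibDim.rd f q := by
  haveI : IsLocallyNoetherian X := LocallyOfFiniteType.isLocallyNoetherian f
  obtain ⟨R, _, _, _, i, k, hic, hk, hki⟩ := AlgSpVal.exists_dvr_path_field (𝟙 X) q x hq
  let τ : Spec (CommRingCat.of R) ⟶ Y := i ≫ f
  let Q : pullback f τ ⟶ Spec (CommRingCat.of R) := pullback.snd f τ
  let p := pullback.fst f τ
  let s : Spec (CommRingCat.of R) ⟶ pullback f τ := pullback.lift i (𝟙 _) (Category.id_comp _).symm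
  haveI : LocallyOfFiniteType Q := inferInstanceAs (LocallyOfFiniteType (pullback.snd f τ))
  haveI : IsLocallyNoetherian (pullback f τ) := LocallyOfFiniteType.isLocallyNoetherian Q
  have hps : s ≫ p = i := pullback.lift_fst _ _ _
  have hQs : s ≫ Q = 𝟙 _ := pullback.lift_snd _ _ _
  have hQ : Q (s (closedPoint R)) = closedPoint R := by rw [← Scheme.Hom.comp_apply, hQs]; rfl
  have hτ : τ (closedPoint R) = f x := by
    show f (i (closedPoint R)) = f x
    rw [hic]
  have hpx : p (s (closedPoint R)) = x := by rw [← Scheme.Hom.comp_apply, hps, hic]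
  let η' := Spec.map (CommRingCat.ofHom (algebraMap R (FractionRing R))) (closedPoint (FractionRing R))
  have hη' : i η' = q := by
    have h := congrArg (fun m : Spec (CommRingCat.of (FractionRing R)) ⟶ X => m (closedPoint (FractionRing R))) hki
    simp only [Category.comp_id] at h
    exact h.symm.trans hk
  have hη's : η' ≠ closedPoint R := fun h => IsDiscreteValuationRing.not_a_field R (by
    refine (congrArg PrimeSpectrum.asIdeal h).symm.trans ?_
    show Ideal.comap (algebraMap R (FractionRing R)) (maximalIdeal (FractionRing R)) = ⊥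
    rw [IsLocalRing.isField_iff_maximalIdeal_eq.1 (Field.toIsField _), ← RingHom.ker_eq_comap_bot]
    exact (RingHom.injective_iff_ker_eq_bot _).1 (IsFractionRing.injective R (FractionRing R)))
  obtain ⟨G, hG, hGmax⟩ := FibDim.exists_maximal_generization (s η')
  have hpG : p G = q := by
    refine hqmax _ ?_
    have h := hG.map p.continuous
    rwa [show p (s η') = q by rw [← Scheme.Hom.comp_apply, hps, hη']] at h
  have hQG : Q G = η' := by
    have h := hG.map Q.continuous
    rw [show Q (s η') = η' by rw [← Scheme.Hom.comp_apply, hQs]; rfl] at h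
    rcases H23.SpGysin.eq_η_or_eq_s R (Q G) with e₁ | e₁ <;> rcases H23.SpGysin.eq_η_or_eq_s R η' with e₂ | e₂
    · rw [e₁, e₂]
    · exact absurd e₂ hη's
    · rw [e₁] at h
      exact absurd ((IsLocalRing.specializes_closedPoint η').antisymm h).eq hη's
    · rw [e₁, e₂]
  have hGx : G ⤳ s (closedPoint R) := hG.trans ((IsLocalRing.specializes_closedPoint η').map s.continuous)
  -- a component of the trace of the closure of `G` on the special fibre
  obtain ⟨N, hN⟩ := exists_bound Q (s (closedPoint R))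
  let S : Set ℕ := {n | ∃ c, G ⤳ c ∧ c ⤳ s (closedPoint R) ∧ Q c = closedPoint R ∧ FibDim.rd Q c = n}
  have hS : BddAbove S := ⟨N, by rintro n ⟨c, -, hc, hcQ, rfl⟩; exact hN c hc (hcQ.trans hQ.symm)⟩
  obtain ⟨c, hGc, hcx, hcQ, hcS⟩ := Nat.sSup_mem (s := S)
    ⟨_, s (closedPoint R), hGx, specializes_rfl, hQ, rfl⟩ hS
  have hcmin : ∀ z, G ⤳ z → z ⤳ c → Q z = closedPoint R → z = c := by
    intro z hGz hzc hzQ
    by_contra hne
    have h1 := FibDim.rd_lt Q hzc hne (hzQ.trans hcQ.symm)
    have h2 := le_csSup hS (show FibDim.rd Q z ∈ S from ⟨z, hGz, hzc.trans hcx, hzQ, rfl⟩)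
    omega
  obtain ⟨w, hw⟩ : c ∈ Set.range (Q.fiberι (closedPoint R)) := by rw [Scheme.Hom.range_fiberι]; exact hcQ
  subst hw
  have hpc : p (Q.fiberι (closedPoint R) w) ⤳ x := (hcx.map p.continuous).trans (specializes_of_eq hpx)
  have hfpc : f (p (Q.fiberι (closedPoint R) w)) = f x := by
    rw [← Scheme.Hom.comp_apply, pullback.condition, Scheme.Hom.comp_apply, hcQ, hτ]
  have hredc := isGeomReducedAt_generization f hpc hfpc hred
  have hopenc : OpenAtGeneric f (p (Q.fiberι (closedPoint R) w)) := (openAtGeneric_iff f _).2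
    fun m hm hfm hmax => (openAtGeneric_iff f x).1 hopen m (hm.trans hpc) (hfm.trans hfpc) hmax
  have hτc : τ (closedPoint R) = f (p (Q.fiberι (closedPoint R) w)) := hτ.trans hfpc.symm
  have hflat := flat_stalkMap_dvr f _ hopenc hredc τ hτc w rfl
  haveI : _root_.IsReduced ((Q.fiber (closedPoint R)).presheaf.stalk w) :=
    UnivOpen.isReduced_fibre_baseChange f τ hτc (f.asFiber _) hredc w (by rw [Scheme.Hom.fiberι_asFiber])
  let c := Q.fiberι (closedPoint R) w
  have hreg : Function.Injective fun e : (pullback f τ).presheaf.stalk c => H23.SpGysin.πx Q c • e := by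
    letI := (Q.stalkMap c).hom.toAlgebra
    haveI := H23.SpGysin.isDomain_stalk (R := R) (Q c)
    haveI : Module.Flat ((Spec (CommRingCat.of R)).presheaf.stalk (Q c)) ((pullback f τ).presheaf.stalk c) := hflat
    intro b d h
    refine H23.SpGysin.injective_smul_of_flat (A := (Spec (CommRingCat.of R)).presheaf.stalk (Q c))
      (H23.SpGysin.unif_germ_ne_zero (Q c)) ?_
    beta_reduce
    rw [Algebra.smul_def, Algebra.smul_def]
    exact h
  let P := CDiv6.primeOf hGc
  have hP : P.asIdeal ∈ minimalPrimes ((pullback f τ).presheaf.stalk c) := by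
    refine ⟨⟨P.isPrime, bot_le⟩, fun J hJ hle => ?_⟩
    have hJG : (pullback f τ).fromSpecStalk c ⟨J, hJ.1⟩ ⤳ G := by
      rw [← CDiv6.fromSpecStalk_primeOf hGc]
      exact ((PrimeSpectrum.le_iff_specializes (⟨J, hJ.1⟩ : PrimeSpectrum _) P).1 hle).map
        ((pullback f τ).fromSpecStalk c).continuous
    have := hGmax _ hJG
    rw [← CDiv6.fromSpecStalk_primeOf hGc] at this
    exact (congrArg PrimeSpectrum.asIdeal (((pullback f τ).fromSpecStalk c).isEmbedding.injective this)).ge
  have hfield : IsField ((Q.fiber (closedPoint R)).presheaf.stalk w) := by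
    refine isField_of_minimalPrime (H23.SpGysin.πx Q c) ?_ hreg _
      ((Q.fiberι (closedPoint R)).stalkMap_surjective w) (H23.SpGysin.ker_fiberι_s Q w) hP fun J hJ hPJ hπJ => ?_
    · exact Ideal.Quotient.eq_zero_iff_mem.1 ((H23.SpGysin.residue_πx_eq_zero_iff Q c).2 hcQ)
    · let J' : PrimeSpectrum ((pullback f τ).presheaf.stalk c) := ⟨J, hJ⟩
      let z := (pullback f τ).fromSpecStalk c J'
      have hzc : z ⤳ c := CDiv6.fromSpecStalk_specializes J'
      have hGz : G ⤳ z := by
        rw [← CDiv6.fromSpecStalk_primeOf hGc]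
        exact ((PrimeSpectrum.le_iff_specializes P J').1 hPJ).map ((pullback f τ).fromSpecStalk c).continuous
      have hzQ : Q z = closedPoint R := by
        refine (H23.SpGysin.residue_πx_eq_zero_iff Q z).1 (Ideal.Quotient.eq_zero_iff_mem.2 ?_)
        rw [← H23.SpGysin.stalkSpecializes_πx Q hzc]
        have : CDiv6.primeOf hzc = J' := CDiv6.primeOf_fromSpecStalk J'
        exact (congrArg (fun P : PrimeSpectrum _ => H23.SpGysin.πx Q c ∈ P.asIdeal) this).mpr hπJ
      have hJ' : J' = closedPoint _ := ((pullback f τ).fromSpecStalk c).isEmbedding.injective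
        ((hcmin z hGz hzc hzQ).trans Scheme.fromSpecStalk_closedPoint.symm)
      exact congrArg PrimeSpectrum.asIdeal hJ'
  have hcmax : FibDim.FibMax Q c := by
    refine (FibDim.fibMax_fiberι_iff Q w).2 fun w' hw' => ?_
    obtain ⟨J, rfl⟩ := (Scheme.range_fromSpecStalk (X := Q.fiber (closedPoint R)) (x := w)).ge hw'
    have hJ : J = closedPoint _ := PrimeSpectrum.ext (by
      letI := hfield.toField
      rcases Ideal.eq_bot_or_top J.asIdeal with h | h
      · exact h.trans (IsLocalRing.isField_iff_maximalIdeal_eq.1 hfield).symm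
      · exact absurd h J.isPrime.ne_top)
    rw [hJ]
    exact Scheme.fromSpecStalk_closedPoint
  have hpb := IsPullback.of_hasPullback f τ
  have hrc : FibDim.rd Q c = FibDim.rd f (p c) := FibDim.rd_baseChange_eq_of_minimal hpb c
    fun v hv _ hqv => hcmax v hv hqv
  have hrG : FibDim.rd Q G = FibDim.rd f q := hpG ▸ FibDim.rd_baseChange_eq_of_minimal hpb G
    fun v hv _ _ => hGmax v hv
  have h1 := he (p c) hpc hfpc (FibDim.fibMax_of_baseChange hpb hcmax)
  have h2 := (DimFormula.cd_formula Q hGc).1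
  have h3 : DimFormula.cd G c ≠ 0 := fun h0 => hη's (by
    rw [← hQG, (DimFormula.cd_eq_zero_iff hGc).1 h0]
    exact hcQ)
  have h4 := cd_le_one (Q G) (Q c) (hGc.map Q.continuous)
  rw [← hrG]
  rw [hrc] at h2
  refine le_trans h1 ?_
  simp only [c] at h1 h2 h3 h4 ⊢
  omega

/-- **EGA IV**: universally open with geometrically reduced equidimensional fibre is equidimensional -/
theorem isEquidimAt (x : X) (hopen : OpenAtGeneric f x)
    (hred : FBase.IsGeomReducedAt (f.fiberToSpecResidueField (f.base x)) (f.asFiber x))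
    (heq : ∃ e : ℕ, ∀ Z ∈ irreducibleComponents (↥(f.fiber (f.base x)) : Type u), f.asFiber x ∈ Z →
      topologicalKrullDim (↥Z : Type u) = e) : EGA43.IsEquidimAt f x := by
  obtain ⟨e, he⟩ := heq
  have hrd : ∀ z, z ⤳ x → f z = f x → FibDim.FibMax f z → FibDim.rd f z = e := by
    intro z hz hfz hmax
    obtain ⟨v, rfl⟩ : z ∈ Set.range (f.fiberι (f x)) := by rw [Scheme.Hom.range_fiberι]; exact hfz
    have hv := (FibDim.fibMax_fiberι_iff f v).1 hmax
    have h := he (closure {v}) (FDescent.closure_mem_irreducibleComponents hv) (specializes_iff_mem_closure.1 (by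
      rw [← FibDim.fiberι_specializes_iff f, Scheme.Hom.fiberι_asFiber]; exact hz))
    rw [VarDim.topologicalKrullDim_closure_singleton (k := Y.residueField _)
      (f.fiberToSpecResidueField _), FibDim.deg_fiber] at h
    exact_mod_cast h
  obtain ⟨z₀, hz₀, hfz₀, hmax₀, hd₀⟩ := FibDim.exists_fibMax_generization f x
  have htop : FibDim.rd f x + DimFormula.fb f x = e := by
    have h := DimFormula.fibreDimAt_eq_add f x
    rw [hd₀, hrd z₀ hz₀ hfz₀ hmax₀] at h
    exact_mod_cast h.symm
  obtain ⟨U, hxU, hU, -⟩ := GeomRedFlat5.exists_univOpen_nhd f x hopen hred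
  refine DimFormula.isEquidimAt_of f fun η hη hmax => ⟨fun y hy => ?_, ?_⟩
  · haveI := hU
    let η₀ : (U : Scheme.{u}) := ⟨η, hη.mem_open U.2 hxU⟩
    have hy' : y ⤳ (U.ι ≫ f) η₀ := hy
    obtain ⟨w, hw, hfw, -, -⟩ := FibDim.exists_fibMax_eq_rd (U.ι ≫ f) (U.ι ≫ f).isOpenMap
      (FibDim.fibMax_of_maximal (U.ι ≫ f) fun v hv => U.ι.isEmbedding.injective (hmax _ (hv.map U.ι.continuous))) hy'
    have hwη : U.ι w = η := hmax _ (hw.map U.ι.continuous)
    rw [← hfw, Scheme.Hom.comp_apply, hwη]
  · rw [htop]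
    refine le_antisymm ?_ (le_rd_of_maximal f x hopen hred e (fun z hz hfz hm => (hrd z hz hfz hm).ge) hη hmax)
    rw [← htop]
    exact DimFormula.rd_le_of_specializes' f hη

end Groth.Agent.UnibFibre

end
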