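import Groth.Agent.UnibFibre.SmoothCrit
import Groth.Agent.UnibFibre.Equidim
import Groth.Agent.UnivOpen.Conditions
import Groth.Agent.H4RG.NormalFibres
import Groth.Agent.CycCovLib.Regular
import Groth.Agent.CotTLib.CI
import Groth.Agent.S2595

/-!
# Smoothness over reduced bases: universal openness or equidimensionality with geometrically regular fibre
-/

noncomputable section

set_option autoImplicit false
set_option linter.style.haveILetI false
set_option linter.unusedSectionVars false
set_option backward.isDefEq.respectTransparency.types false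
set_option maxHeartbeats 1000000
set_option synthInstance.maxHeartbeats 400000

universe u

open CategoryTheory CategoryTheory.Limits AlgebraicGeometry IsLocalRing
open scoped TensorProduct

namespace Groth.Agent.UnibFibre.SmoothApp

/-- a geometrically regular algebra is geometrically reduced -/
theorem isGeometricallyReduced_of_geometricallyRegular {k S : Type u} [Field k] [CommRing S] [Algebra k S]
    (h : CAlg.IsGeometricallyRegular k S) : Algebra.IsGeometricallyReduced k S := by
  rw [GeomField.gr_iff]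
  refine IsReduced.tensorProduct_of_flat_of_forall_fg fun B hB => ?_
  haveI : Algebra.FiniteType k B := B.fg_iff_finiteType.1 hB
  haveI : Algebra.IsIntegral k B := Algebra.IsIntegral.of_injective B.val Subtype.val_injective
  haveI : Module.Finite k B := Algebra.IsIntegral.finite
  letI : Field B := (isField_of_isIntegral_of_isField' (R := k) (S := B) (Field.toIsField k)).toField
  haveI : IsRegularRing (B ⊗[k] S) := h B inferInstance
  haveI : IsReduced (B ⊗[k] S) := CycCovLib.isReduced_of_isRegularRing _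
  exact isReduced_of_injective (Algebra.TensorProduct.comm k S B) (Algebra.TensorProduct.comm k S B).injective

variable {X Y : Scheme.{u}} (f : X ⟶ Y) (x : X)

/-- geometric regularity of the local ring of the fibre, in the form used by the statements -/
def GRFib : Prop :=
  letI φ := (f.stalkMap x).hom
  letI 𝔪 := IsLocalRing.maximalIdeal ↑(Y.presheaf.stalk (f.base x))
  letI : Algebra (IsLocalRing.ResidueField ↑(Y.presheaf.stalk (f.base x))) (↑(X.presheaf.stalk x) ⧸ 𝔪.map φ) :=
    (Ideal.quotientMap (𝔪.map φ) φ Ideal.le_comap_map).toAlgebra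
  CAlg.IsGeometricallyRegular (IsLocalRing.ResidueField ↑(Y.presheaf.stalk (f.base x)))
    (↑(X.presheaf.stalk x) ⧸ 𝔪.map φ)

theorem isGeomReducedAt_of_grFib (h : GRFib f x) :
    FBase.IsGeomReducedAt (f.fiberToSpecResidueField (f.base x)) (f.asFiber x) := by
  let A := Y.presheaf.stalk (f x)
  let B := X.presheaf.stalk x
  letI : Algebra A B := (f.stalkMap x).hom.toAlgebra
  haveI : IsLocalHom (algebraMap A B) := inferInstanceAs (IsLocalHom (f.stalkMap x).hom)
  letI : Algebra (ResidueField A) (B ⧸ (maximalIdeal A).map (algebraMap A B)) :=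
    (Ideal.quotientMap ((maximalIdeal A).map (algebraMap A B)) (algebraMap A B) Ideal.le_comap_map).toAlgebra
  refine (GeomRedFlat5.isGeomReducedAt_fibre_iff f x rfl).2 (isGeometricallyReduced_of_geometricallyRegular ?_)
  refine SmoothCrit.geometricallyRegular_congr (RingEquiv.refl (ResidueField A))
    ((Algebra.TensorProduct.quotIdealMapEquivTensorQuot B (maximalIdeal A)).toRingEquiv.trans
      (Algebra.TensorProduct.comm A B (A ⧸ maximalIdeal A)).toRingEquiv) (fun r => ?_) h
  obtain ⟨a, rfl⟩ := Ideal.Quotient.mk_surjective r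
  show Algebra.TensorProduct.comm A B (A ⧸ maximalIdeal A) (algebraMap A B a ⊗ₜ[A] (1 : A ⧸ maximalIdeal A)) =
    (algebraMap A (A ⧸ maximalIdeal A) a) ⊗ₜ[A] (1 : B)
  rw [Algebra.TensorProduct.comm_tmul, Algebra.algebraMap_eq_smul_one, Algebra.algebraMap_eq_smul_one,
    TensorProduct.smul_tmul]

theorem isRegularLocalRing_fibre_stalk [IsLocallyNoetherian Y] [LocallyOfFiniteType f] (h : GRFib f x) :
    IsRegularLocalRing ((f.fiber (f.base x)).presheaf.stalk (f.asFiber x)) := by
  haveI : IsLocallyNoetherian X := LocallyOfFiniteType.isLocallyNoetherian f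
  let A := Y.presheaf.stalk (f x)
  let B := X.presheaf.stalk x
  letI : Algebra A B := (f.stalkMap x).hom.toAlgebra
  let κ := ResidueField A
  let Q := B ⧸ (maximalIdeal A).map (algebraMap A B)
  letI : Algebra κ Q :=
    (Ideal.quotientMap ((maximalIdeal A).map (algebraMap A B)) (algebraMap A B) Ideal.le_comap_map).toAlgebra
  haveI : IsRegularRing (κ ⊗[κ] Q) := (h : CAlg.IsGeometricallyRegular κ Q) κ inferInstance
  haveI : IsRegularRing Q := IsRegularRing.of_ringEquiv (Algebra.TensorProduct.lid κ Q).toRingEquiv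
  have e : f.fiberι (f.base x) (f.asFiber x) = x := f.fiberι_asFiber x
  let E : Q ≃+* (f.fiber (f.base x)).presheaf.stalk (f.asFiber x) :=
    (Ideal.quotEquivOfEq (GeomRedFlat5.ker_specializes f (f.asFiber x) e).symm).trans
      (RingHom.quotientKerEquivOfSurjective (GeomRedFlat5.surjective_specializes f (f.asFiber x) e))
  haveI : IsRegularRing ((f.fiber (f.base x)).presheaf.stalk (f.asFiber x)) := IsRegularRing.of_ringEquiv E
  exact IsRegularLocalRing.of_isRegularRing_of_isLocalRing _

variable [IsLocallyNoetherian Y] [LocallyOfFiniteType f]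

theorem mem_smoothLocus_iff_nhd [LocallyOfFinitePresentation f] :
    x ∈ f.smoothLocus ↔ ∃ U : X.Opens, x ∈ U ∧ Smooth (U.ι ≫ f) := by
  constructor
  · intro h
    refine ⟨f.smoothLocus, h, Scheme.Hom.smoothLocus_eq_top_iff.1 ?_⟩
    rw [← Scheme.Hom.preimage_smoothLocus_eq]
    exact SetLike.ext fun z => iff_true_intro (show f.smoothLocus.ι z ∈ f.smoothLocus from z.2) |>.trans (by simp)
  · rintro ⟨U, hxU, hU⟩
    haveI := hU
    have h : (⟨x, hxU⟩ : (U : Scheme.{u})) ∈ (U.ι ≫ f).smoothLocus := by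
      rw [Scheme.Hom.smoothLocus_eq_top]; trivial
    rw [← Scheme.Hom.preimage_smoothLocus_eq] at h
    exact h

omit [IsLocallyNoetherian Y] [LocallyOfFiniteType f] in
theorem isUnivOpenAt_of_opens (U : X.Opens) [UniversallyOpen (U.ι ≫ f)] {z : X} (hz : z ∈ U) :
    EGA43.IsUnivOpenAt f z := by
  intro Y' τ x' hx' N hN
  let j : pullback (U.ι ≫ f) τ ⟶ pullback f τ :=
    pullback.map (U.ι ≫ f) τ f τ U.ι (𝟙 _) (𝟙 _) (by simp) (by simp)
  haveI : IsOpenImmersion j := inferInstance
  obtain ⟨w, rfl⟩ : x' ∈ Set.range j := by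
    rw [Scheme.Pullback.range_map]
    refine ⟨?_, by simp⟩
    show pullback.fst f τ x' ∈ Set.range U.ι
    rw [Scheme.Opens.range_ι, hx']
    exact hz
  have h1 := (pullback.snd (U.ι ≫ f) τ).isOpenMap.image_mem_nhds (j.continuous.continuousAt.preimage_mem_nhds hN)
  have hj : pullback.snd (U.ι ≫ f) τ = j ≫ pullback.snd f τ := by
    rw [show j ≫ pullback.snd f τ = pullback.snd (U.ι ≫ f) τ ≫ 𝟙 _ from pullback.lift_snd _ _ _, Category.comp_id]
  rw [hj, Scheme.Hom.comp_apply] at h1
  refine Filter.mem_of_superset h1 ?_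
  rintro _ ⟨a, ha, rfl⟩
  exact ⟨j a, ha, rfl⟩

theorem smooth_of_univOpen (hred : IsReduced (Y.presheaf.stalk (f.base x))) (hopen : OpenAtGeneric f x)
    (hgr : GRFib f x) : ∃ U : X.Opens, x ∈ U ∧ Smooth (U.ι ≫ f) := by
  haveI := GeomRedFlat5.lfp_of_noetherian f
  refine (mem_smoothLocus_iff_nhd f x).1 ((SmoothCrit.mem_smoothLocus_iff f x).2 ⟨?_, hgr⟩)
  exact FlatDvrVC5.flat_stalkMap_of_univOpen f x hopen (isGeomReducedAt_of_grFib f x hgr) hred

theorem flat_grFib_of_smooth (h : ∃ U : X.Opens, x ∈ U ∧ Smooth (U.ι ≫ f)) :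
    (f.stalkMap x).hom.Flat ∧ GRFib f x := by
  haveI := GeomRedFlat5.lfp_of_noetherian f
  exact (SmoothCrit.mem_smoothLocus_iff f x).1 ((mem_smoothLocus_iff_nhd f x).2 h)

/-- **EGA IV 17.x (universally open form)** -/
theorem smooth_iff_univOpen (hred : IsReduced (Y.presheaf.stalk (f.base x))) :
    (∃ U : X.Opens, x ∈ U ∧ Smooth (U.ι ≫ f)) ↔
      (∃ W : X.Opens, x ∈ W ∧ ∀ x' ∈ W, f.base x' = f.base x → EGA43.IsUnivOpenAt f x') ∧ GRFib f x := by
  constructor
  · intro h
    refine ⟨?_, (flat_grFib_of_smooth f x h).2⟩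
    obtain ⟨U, hxU, hU⟩ := h
    haveI := hU
    exact ⟨U, hxU, fun z hz _ => isUnivOpenAt_of_opens f U hz⟩
  · rintro ⟨⟨W, hxW, hW⟩, hgr⟩
    exact smooth_of_univOpen f x hred ((openAtGeneric_iff f x).2 fun m hm hfm _ =>
      hW m (hm.mem_open W.2 hxW) hfm) hgr

/-- **EGA IV 17.x (equidimensional form)** -/
theorem smooth_iff_equidim (hred : IsReduced (Y.presheaf.stalk (f.base x)))
    (hgu : CAlg2.IsGeomUnibranch (Y.presheaf.stalk (f.base x))) :
    (∃ U : X.Opens, x ∈ U ∧ Smooth (U.ι ≫ f)) ↔ EGA43.IsEquidimAt f x ∧ GRFib f x := by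
  constructor
  · intro h
    obtain ⟨hflat, hgr⟩ := flat_grFib_of_smooth f x h
    refine ⟨S2595.result f x hflat ?_, hgr⟩
    haveI := isRegularLocalRing_fibre_stalk f x hgr
    exact { supportDim_eq_depth := CotTLib.isCM_of_isRegularLocalRing ((f.fiber (f.base x)).presheaf.stalk (f.asFiber x)) }
  · rintro ⟨heq, hgr⟩
    exact smooth_of_univOpen f x hred ((openAtGeneric_iff f x).2 fun m hm hfm hmax =>
      UnivOpen.isUnivOpenAt_of_equidim f hgu heq hm hfm hmax) hgr

end Groth.Agent.UnibFibre.SmoothApp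

end
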