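import Groth.Agent.UnibFibre.OpenAt
import Groth.Agent.S4472

/-!
# EGA IV 14.4.1.3 without finite presentation
-/

noncomputable section

set_option autoImplicit false
set_option linter.style.haveILetI false
set_option linter.unusedSectionVars false
set_option backward.isDefEq.respectTransparency.types false

universe u

open AlgebraicGeometry CategoryTheory PrimeSpectrum Topology

namespace Groth.Agent.UnibFibre.OpenAt

/-- the reduced localisation -/
theorem isUnibranch_localization_red {A₀ O : Type u} [CommRing A₀] [CommRing O] [Algebra A₀ O] [IsLocalRing O]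
    (p₀ : Ideal A₀) [p₀.IsPrime] [IsLocalization.AtPrime O p₀] (h : CAlg2.IsUnibranch O)
    (p : Ideal (A₀ ⧸ nilradical A₀)) [p.IsPrime] (hp : p.comap (Ideal.Quotient.mk _) = p₀) :
    CAlg2.IsUnibranch (Localization.AtPrime p) := by
  let A := A₀ ⧸ nilradical A₀
  haveI := h.1
  haveI : IsLocalRing (CAlg2.red O) := IsLocalRing.of_surjective' _ Ideal.Quotient.mk_surjective
  have hred : CAlg2.IsUnibranch (CAlg2.red O) :=
    (Groth.Agent.FormCat.isUnibranch_iff (CAlg2.red O)).2 ⟨h.1, h.2⟩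
  let π : O →+* CAlg2.red O := Ideal.Quotient.mk (nilradical O)
  let θ : A →+* CAlg2.red O := Ideal.Quotient.lift _ (π.comp (algebraMap A₀ O)) fun a ha =>
    (IsNilpotent.map ha (π.comp (algebraMap A₀ O))).eq_zero
  letI : Algebra A (CAlg2.red O) := θ.toAlgebra
  haveI : IsLocalization.AtPrime (CAlg2.red O) p := by
    constructor
    constructor
    · rintro ⟨y, hy⟩
      obtain ⟨y₀, rfl⟩ := Ideal.Quotient.mk_surjective y
      exact (IsLocalization.map_units O (⟨y₀, fun h => hy (hp.ge h : y₀ ∈ p.comap (Ideal.Quotient.mk _))⟩ :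
        p₀.primeCompl)).map π
    · intro z
      obtain ⟨z₀, rfl⟩ := Ideal.Quotient.mk_surjective z
      obtain ⟨⟨a, t⟩, hat⟩ := IsLocalization.surj p₀.primeCompl z₀
      exact ⟨⟨Ideal.Quotient.mk _ a, ⟨Ideal.Quotient.mk _ t.1, fun h => t.2 (hp.le h)⟩⟩,
        ((map_mul π _ _).symm.trans (congrArg π hat))⟩
    · intro a b hab
      obtain ⟨a₀, rfl⟩ := Ideal.Quotient.mk_surjective a
      obtain ⟨b₀, rfl⟩ := Ideal.Quotient.mk_surjective b
      obtain ⟨n, hn⟩ : IsNilpotent (algebraMap A₀ O a₀ - algebraMap A₀ O b₀) :=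
        Ideal.Quotient.eq.1 (show π (algebraMap A₀ O a₀) = π (algebraMap A₀ O b₀) from hab)
      rw [← map_sub, ← map_pow] at hn
      obtain ⟨c, hc⟩ := (IsLocalization.map_eq_zero_iff p₀.primeCompl O _).1 hn
      refine ⟨⟨Ideal.Quotient.mk _ c.1, fun h => c.2 (hp.le h)⟩, ?_⟩
      show Ideal.Quotient.mk _ c.1 * _ = Ideal.Quotient.mk _ c.1 * _
      rw [← map_mul, ← map_mul, Ideal.Quotient.eq, ← mul_sub]
      refine ⟨n + 1, ?_⟩
      have hz : ((c : A₀) * (a₀ - b₀)) ^ (n + 1) = (c : A₀) ^ n * (a₀ - b₀) * ((c : A₀) * (a₀ - b₀) ^ n) := by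
        rw [mul_pow, pow_succ, pow_succ]; ring
      rw [hz, hc, mul_zero]
      exact Submodule.zero_mem _
  exact S4472.isUnibranch_of_ringEquiv
    (IsLocalization.algEquiv p.primeCompl (CAlg2.red O) (Localization.AtPrime p)).toRingEquiv hred

/-- primes of the integral closure away from the element of the main theorem lift -/
theorem exists_lift {A B : Type u} [CommRing A] [CommRing B] [Algebra A B] (r : B) (hr : IsIntegral A r)
    (hb : ∀ b : B, ∃ m : ℕ, IsIntegral A (r ^ m * b)) (P : Ideal (integralClosure A B)) [P.IsPrime]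
    (hrP : (⟨r, hr⟩ : integralClosure A B) ∉ P) :
    ∃ Q : Ideal B, Q.IsPrime ∧ Q.comap (algebraMap (integralClosure A B) B) = P := by
  let C := integralClosure A B
  let r' : C := ⟨r, hr⟩
  let Q : Ideal B :=
    { carrier := {b | ∃ c ∈ P, ∃ m : ℕ, (c : B) = r ^ m * b}
      add_mem' := by
        rintro a b ⟨c, hc, m, hcm⟩ ⟨d, hd, n, hdn⟩
        refine ⟨r' ^ n * c + r' ^ m * d, add_mem (P.mul_mem_left _ hc) (P.mul_mem_left _ hd), m + n, ?_⟩
        push_cast
        show r ^ n * (c : B) + r ^ m * (d : B) = _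
        rw [hcm, hdn]; ring
      zero_mem' := ⟨0, zero_mem _, 0, by simp⟩
      smul_mem' := by
        rintro a b ⟨c, hc, m, hcm⟩
        obtain ⟨k, hk⟩ := hb a
        refine ⟨⟨_, hk⟩ * c, P.mul_mem_left _ hc, k + m, ?_⟩
        show r ^ k * a * (c : B) = _
        rw [hcm, smul_eq_mul]; ring }
  have hQ : Q.comap (algebraMap C B) = P := by
    refine le_antisymm ?_ fun c hc => ⟨c, hc, 0, by simp⟩
    rintro c ⟨d, hd, m, hdm⟩
    have : d = r' ^ m * c := Subtype.ext (by push_cast; exact hdm)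
    rw [this] at hd
    exact (‹P.IsPrime›.mem_or_mem hd).resolve_left fun h => hrP (‹P.IsPrime›.mem_of_pow_mem m h)
  refine ⟨Q, ⟨fun h => ‹P.IsPrime›.ne_top (by rw [← hQ, h, Ideal.comap_top]), fun {a b} hab => ?_⟩, hQ⟩
  obtain ⟨c, hc, m, hcm⟩ := hab
  obtain ⟨i, hi⟩ := hb a
  obtain ⟨j, hj⟩ := hb b
  have : r' ^ m * ((⟨_, hi⟩ : C) * ⟨_, hj⟩) = r' ^ (i + j) * c := Subtype.ext (by
    push_cast
    show r ^ m * (r ^ i * a * (r ^ j * b)) = r ^ (i + j) * (c : B)
    rw [hcm]; ring)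
  rcases (‹P.IsPrime›.mem_or_mem ((‹P.IsPrime›.mem_or_mem (this.symm ▸ P.mul_mem_left _ hc :
    r' ^ m * ((⟨_, hi⟩ : C) * ⟨_, hj⟩) ∈ P)).resolve_left fun h => hrP (‹P.IsPrime›.mem_of_pow_mem m h))) with h | h
  · exact Or.inl ⟨_, h, i, rfl⟩
  · exact Or.inr ⟨_, h, j, rfl⟩

variable {X Y : Scheme.{u}}

theorem nilradical_eq_primeIdealOf [IrreducibleSpace X] {W : X.Opens} (hW : IsAffineOpen W)
    (hη : genericPoint X ∈ W) : (hW.primeIdealOf ⟨genericPoint X, hη⟩).asIdeal = nilradical Γ(X, W) := by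
  refine le_antisymm ?_ (nilradical_le_prime _)
  rw [nilradical_eq_sInf]
  refine le_sInf fun J hJ => ?_
  refine (PrimeSpectrum.le_iff_specializes (hW.primeIdealOf ⟨genericPoint X, hη⟩) ⟨J, hJ⟩).2 ?_
  refine hW.fromSpec.isOpenEmbedding.isInducing.specializes_iff.1 ?_
  rw [hW.fromSpec_primeIdealOf]
  exact (genericPoint_spec X).specializes trivial

/-- **EGA IV 14.4.1.3** -/
theorem isOpenAt_of_quasiFinite (f : X ⟶ Y) [IrreducibleSpace X] [IrreducibleSpace Y] [LocallyOfFiniteType f]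
    (hd : DenseRange f.base) (x : X) (hiso : nhdsWithin x (f.base ⁻¹' {f.base x}) = pure x)
    (hy : CAlg2.IsUnibranch (Y.presheaf.stalk (f.base x))) : EGA43.IsOpenAt f.base x := by
  intro U hU
  obtain ⟨V, hV, hxV, -⟩ := exists_isAffineOpen_mem_and_subset (x := f x) (U := ⊤) trivial
  obtain ⟨W, hW, hxW, hWV⟩ := exists_isAffineOpen_mem_and_subset (x := x) (U := f ⁻¹ᵁ V) hxV
  -- quasi-finiteness
  have hqf : f.QuasiFiniteAt x := by
    rw [Scheme.Hom.quasiFiniteAt_iff_isOpen_singleton_asFiber]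
    obtain ⟨O, hO, hxO, hOx⟩ := mem_nhdsWithin.1
      (show ({x} : Set X) ∈ nhdsWithin x (f.base ⁻¹' {f.base x}) by rw [hiso]; exact Filter.mem_pure.2 rfl)
    convert hO.preimage (f.fiberι (f x)).continuous using 1
    ext w
    simp only [Set.mem_preimage, Set.mem_singleton_iff]
    refine Iff.symm ?_
    constructor
    · intro hw
      refine (f.fiberι (f x)).isEmbedding.injective ?_
      rw [Scheme.Hom.fiberι_asFiber]
      exact hOx ⟨hw, by
        have : f.fiberι (f x) w ∈ Set.range (f.fiberι (f x)) := ⟨w, rfl⟩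
        rwa [Scheme.Hom.range_fiberι] at this⟩
    · rintro rfl
      rwa [Scheme.Hom.fiberι_asFiber]
  -- the affine data
  letI : Algebra Γ(Y, V) Γ(X, W) := (f.appLE V W hWV).hom.toAlgebra
  haveI : Algebra.FiniteType Γ(Y, V) Γ(X, W) := f.finiteType_appLE hV hW hWV
  let q₀ := (hW.primeIdealOf ⟨x, hxW⟩).asIdeal
  haveI : Algebra.QuasiFiniteAt Γ(Y, V) q₀ := hqf.quasiFiniteAt hW hV hWV hxW
  obtain ⟨r₀, hr₀, hr₀i, hr₀b⟩ := Algebra.zariskisMainProperty_iff.1
    (Algebra.ZariskisMainProperty.of_finiteType (R := Γ(Y, V)) q₀)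
  have hηW : genericPoint X ∈ W := ((genericPoint_spec X).specializes (Set.mem_univ x)).mem_open W.2 hxW
  have hηV : genericPoint Y ∈ V := ((genericPoint_spec Y).specializes (Set.mem_univ (f x))).mem_open V.2 hxV
  have hgen : f (genericPoint X) = genericPoint Y := by
    have h1 : IsGenericPoint (f (genericPoint X)) Set.univ := by
      rw [IsGenericPoint, ← Set.image_singleton, ← closure_image_closure f.continuous, (genericPoint_spec X).def,
        Set.image_univ, hd.closure_range]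
    exact h1.eq (genericPoint_spec Y)
  let A := Γ(Y, V) ⧸ nilradical Γ(Y, V)
  let B := Γ(X, W) ⧸ nilradical Γ(X, W)
  have hnil : (nilradical Γ(X, W)).comap (algebraMap Γ(Y, V) Γ(X, W)) = nilradical Γ(Y, V) := by
    rw [← nilradical_eq_primeIdealOf hW hηW, ← nilradical_eq_primeIdealOf hV hηV]
    refine congrArg PrimeSpectrum.asIdeal ((IsAffineOpen.comap_primeIdealOf_appLE V hV W hW hWV hηW).trans ?_)
    exact congrArg hV.primeIdealOf (Subtype.ext hgen)
  haveI : IsDomain B := (Ideal.Quotient.isDomain_iff_prime _).2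
    (nilradical_eq_primeIdealOf hW hηW ▸ PrimeSpectrum.isPrime _)
  haveI : IsDomain A := (Ideal.Quotient.isDomain_iff_prime _).2
    (nilradical_eq_primeIdealOf hV hηV ▸ PrimeSpectrum.isPrime _)
  let πA : Γ(Y, V) →+* A := Ideal.Quotient.mk _
  let πB : Γ(X, W) →+* B := Ideal.Quotient.mk _
  letI : Algebra A B := (Ideal.quotientMap (nilradical Γ(X, W)) (algebraMap Γ(Y, V) Γ(X, W)) hnil.ge).toAlgebra
  have hinj : Function.Injective (algebraMap A B) := Ideal.quotientMap_injective' hnil.le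
  have hint : ∀ {b : Γ(X, W)}, IsIntegral Γ(Y, V) b → IsIntegral A (πB b) := by
    rintro b ⟨P, hP, he⟩
    refine ⟨P.map πA, hP.map _, ?_⟩
    rw [Polynomial.eval₂_map]
    refine (Polynomial.hom_eval₂ P (algebraMap Γ(Y, V) Γ(X, W)) πB b).symm.trans ?_
    rw [he, map_zero]
  have hb : ∀ b : B, ∃ m : ℕ, IsIntegral A (πB r₀ ^ m * b) := fun b => by
    obtain ⟨b₀, rfl⟩ := Ideal.Quotient.mk_surjective b
    obtain ⟨m, hm⟩ := hr₀b b₀
    refine ⟨m, ?_⟩
    rw [← map_pow, ← map_mul]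
    exact hint hm
  let C := integralClosure A B
  haveI : Algebra.IsIntegral A C := ⟨fun c => (isIntegral_algHom_iff C.val Subtype.val_injective).1 c.2⟩
  have hCinj : Function.Injective (algebraMap A C) := fun a b hab => hinj (congrArg Subtype.val hab)
  -- the point
  obtain ⟨_, ⟨s₀, rfl⟩, hs₀, hs₀U⟩ := PrimeSpectrum.isTopologicalBasis_basic_opens.mem_nhds_iff.1
    (hW.fromSpec.continuous.continuousAt.preimage_mem_nhds
      (show U ∈ nhds (hW.fromSpec (hW.primeIdealOf ⟨x, hxW⟩)) by rw [hW.fromSpec_primeIdealOf]; exact hU))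
  have hle : nilradical Γ(X, W) ≤ q₀ := nilradical_le_prime _
  let q : Ideal B := q₀.map πB
  have hq : q.comap πB = q₀ := by
    rw [Ideal.comap_map_of_surjective _ Ideal.Quotient.mk_surjective, ← RingHom.ker_eq_comap_bot, Ideal.mk_ker,
      sup_eq_left]
    exact hle
  haveI : q.IsPrime := Ideal.map_isPrime_of_surjective Ideal.Quotient.mk_surjective (by rw [Ideal.mk_ker]; exact hle)
  let qC : PrimeSpectrum C := ⟨q.comap (algebraMap C B), inferInstance⟩
  have hqA : (qC.asIdeal.comap (algebraMap A C)).comap πA = (hV.primeIdealOf ⟨f x, hxV⟩).asIdeal := by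
    show ((q.comap (algebraMap C B)).comap (algebraMap A C)).comap πA = _
    rw [Ideal.comap_comap, Ideal.comap_comap]
    show q.comap (πB.comp (algebraMap Γ(Y, V) Γ(X, W))) = _
    rw [← Ideal.comap_comap, hq]
    exact congrArg PrimeSpectrum.asIdeal (IsAffineOpen.comap_primeIdealOf_appLE V hV W hW hWV hxW)
  letI : Algebra Γ(Y, V) (Y.presheaf.stalk (f x)) := (Y.presheaf.germ V (f x) hxV).hom.toAlgebra
  haveI : IsLocalization.AtPrime (Y.presheaf.stalk (f x)) (hV.primeIdealOf ⟨f x, hxV⟩).asIdeal :=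
    hV.isLocalization_stalk ⟨f x, hxV⟩
  have hu : CAlg2.IsUnibranch (Localization.AtPrime (qC.asIdeal.comap (algebraMap A C))) :=
    isUnibranch_localization_red (hV.primeIdealOf ⟨f x, hxV⟩).asIdeal hy _ hqA
  obtain ⟨k, hk⟩ := hb (πB s₀)
  let c : C := ⟨_, hk⟩ * ⟨πB r₀, hint hr₀i⟩
  have hr₀q : πB r₀ ∉ q := fun h => hr₀ (hq.le h)
  have hcq : c ∉ qC.asIdeal := fun h => by
    have h' : πB r₀ ^ k * πB s₀ * πB r₀ ∈ q := h
    rcases (inferInstance : q.IsPrime).mem_or_mem h' with h | h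
    · rcases (inferInstance : q.IsPrime).mem_or_mem h with h | h
      · exact hr₀q ((inferInstance : q.IsPrime).mem_of_pow_mem k h)
      · exact hs₀ (hq.le h)
    · exact hr₀q h
  have hnhd := exists_nhd_subset_image hCinj qC (fun P₁ P₂ h₁ h₂ e₁ e₂ => by
    haveI := h₁; haveI := h₂; exact prime_unique_of_unibranch _ hu P₁ P₂ e₁ e₂) c hcq
  -- back to the schemes
  have hopenπ : IsOpenMap (PrimeSpectrum.comap πA) := by
    have hsurj : Function.Surjective (PrimeSpectrum.comap πA) := fun P => by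
      have hP : nilradical Γ(Y, V) ≤ P.asIdeal := nilradical_le_prime _
      refine ⟨⟨P.asIdeal.map πA, Ideal.map_isPrime_of_surjective Ideal.Quotient.mk_surjective
        (by rw [Ideal.mk_ker]; exact hP)⟩, PrimeSpectrum.ext ?_⟩
      show Ideal.comap πA (Ideal.map πA P.asIdeal) = _
      rw [Ideal.comap_map_of_surjective _ Ideal.Quotient.mk_surjective, ← RingHom.ker_eq_comap_bot, Ideal.mk_ker,
        sup_eq_left]
      exact hP
    exact ((PrimeSpectrum.isClosedEmbedding_comap_of_surjective _ _ Ideal.Quotient.mk_surjective).isEmbedding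
      |>.toHomeomorphOfSurjective hsurj).isOpenMap
  have hmem := hV.fromSpec.isOpenEmbedding.isOpenMap.image_mem_nhds (hopenπ.image_mem_nhds hnhd)
  rw [show PrimeSpectrum.comap πA (PrimeSpectrum.comap (algebraMap A C) qC) = hV.primeIdealOf ⟨f x, hxV⟩ from
    PrimeSpectrum.ext hqA, hV.fromSpec_primeIdealOf] at hmem
  refine Filter.mem_of_superset hmem ?_
  rintro _ ⟨_, ⟨_, ⟨P, hPc, rfl⟩, rfl⟩, rfl⟩
  obtain ⟨Q, hQp, hQ⟩ := exists_lift (πB r₀) (hint hr₀i) hb P.asIdeal fun h => hPc (P.asIdeal.mul_mem_left _ h)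
  let Q₀ : PrimeSpectrum Γ(X, W) := ⟨Q.comap πB, Ideal.IsPrime.comap _⟩
  refine ⟨hW.fromSpec Q₀, hs₀U fun hs => hPc ?_, ?_⟩
  · refine P.asIdeal.mul_mem_right _ ?_
    rw [← hQ]
    show πB r₀ ^ k * πB s₀ ∈ Q
    exact Q.mul_mem_left _ hs
  · refine (congrArg (fun m : Spec Γ(X, W) ⟶ Y => m Q₀) (hV.SpecMap_appLE_fromSpec f hW hWV)).symm.trans ?_
    refine congrArg hV.fromSpec (PrimeSpectrum.ext ?_)
    show (Q.comap πB).comap (algebraMap Γ(Y, V) Γ(X, W)) = (P.asIdeal.comap (algebraMap A C)).comap πA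
    rw [← hQ, Ideal.comap_comap, Ideal.comap_comap, Ideal.comap_comap]
    rfl

end Groth.Agent.UnibFibre.OpenAt

end
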