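import Groth.Prelude.Def_CAlg2
import Groth.Prelude.Def_EGA43
import Groth.Agent.UnivOpen.UnibranchAlg
import Mathlib.RingTheory.Polynomial.GaussLemma
import Mathlib.RingTheory.ZariskisMainTheorem
import Mathlib.AlgebraicGeometry.ZariskisMainTheorem

/-!
# Openness of dominant quasi-finite morphisms at unibranch points, without finite presentation
-/

noncomputable section

set_option autoImplicit false
set_option linter.style.haveILetI false
set_option linter.unusedSectionVars false

universe u

open Polynomial PrimeSpectrum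

namespace Groth.Agent.UnibFibre.OpenAt

/-- over a unibranch point there is one prime of the normalisation -/
theorem prime_unique_of_unibranch {A : Type u} [CommRing A] [IsDomain A] (p : Ideal A) [p.IsPrime]
    (h : CAlg2.IsUnibranch (Localization.AtPrime p)) (P₁ P₂ : Ideal (integralClosure A (FractionRing A)))
    [P₁.IsPrime] [P₂.IsPrime] (h₁ : P₁.comap (algebraMap A _) = p) (h₂ : P₂.comap (algebraMap A _) = p) :
    P₁ = P₂ := by
  obtain ⟨hdom, hloc⟩ := h
  let O := Localization.AtPrime p
  haveI := hdom
  haveI := hloc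
  let K := FractionRing A
  let F := FractionRing (CAlg2.red O)
  haveI : IsDomain O := IsLocalization.isDomain_localization p.primeCompl_le_nonZeroDivisors
  have hOF : Function.Injective (algebraMap O F) := fun a b hab => by
    have h' := IsFractionRing.injective (CAlg2.red O) F hab
    rw [Ideal.Quotient.eq, nilradical_eq_zero O] at h'
    exact sub_eq_zero.1 h'
  have hAF : Function.Injective (algebraMap A F) :=
    hOF.comp (IsLocalization.injective O p.primeCompl_le_nonZeroDivisors)
  let j : K →ₐ[A] F :=
    { (IsFractionRing.lift hAF : K →+* F) with commutes' := fun a => IsFractionRing.lift_algebraMap hAF a }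
  have hj : Function.Surjective j := by
    intro z
    obtain ⟨a, b, hb, rfl⟩ := IsFractionRing.div_surjective (A := CAlg2.red O) z
    obtain ⟨a, rfl⟩ := Ideal.Quotient.mk_surjective a
    obtain ⟨b, rfl⟩ := Ideal.Quotient.mk_surjective b
    obtain ⟨a₀, s, rfl⟩ := IsLocalization.exists_mk'_eq p.primeCompl a
    obtain ⟨b₀, t, rfl⟩ := IsLocalization.exists_mk'_eq p.primeCompl b
    have hu : ∀ s : p.primeCompl, algebraMap A F s ≠ 0 := fun s hs =>
      s.2 (by rw [(injective_iff_map_eq_zero _).1 hAF _ hs]; exact zero_mem _)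
    have key : ∀ (c : A) (s : p.primeCompl), algebraMap O F (IsLocalization.mk' O c s) =
        algebraMap A F c / algebraMap A F s := fun c s => by
      rw [eq_div_iff (hu s), IsScalarTower.algebraMap_apply A O F (s : A), ← map_mul, IsLocalization.mk'_spec]
      rfl
    refine ⟨algebraMap A K a₀ / algebraMap A K s / (algebraMap A K b₀ / algebraMap A K t), ?_⟩
    rw [map_div₀, map_div₀, map_div₀, AlgHom.commutes, AlgHom.commutes, AlgHom.commutes, AlgHom.commutes]
    exact (congrArg₂ HDiv.hDiv (key a₀ s) (key b₀ t)).symm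
  -- the map of the normalisation into the local normalisation
  let D := integralClosure A K
  let δ : D →+* CAlg2.normRed O :=
    { toFun := fun d => ⟨j d, (((d.2 : IsIntegral A (d : K)).map j).tower_top (A := O)).tower_top⟩
      map_one' := Subtype.ext (map_one j)
      map_mul' := fun a b => Subtype.ext (map_mul j _ _)
      map_zero' := Subtype.ext (map_zero j)
      map_add' := fun a b => Subtype.ext (map_add j _ _) }
  have hmult : ∀ n : CAlg2.normRed O, ∃ (s : p.primeCompl) (d : D),
      δ (algebraMap A D s) * n = δ d := by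
    intro n
    obtain ⟨k, hk⟩ := hj (n : F)
    have hn : IsIntegral O (n : F) := isIntegral_trans (n : F) n.2
    obtain ⟨s, hs⟩ := IsIntegral.exists_multiple_integral_of_isLocalization p.primeCompl (n : F) hn
    have hsk : IsIntegral A (algebraMap A K s * k) := by
      refine (isIntegral_algHom_iff j j.toRingHom.injective).1 ?_
      rw [map_mul, AlgHom.commutes, hk]
      rwa [Submonoid.smul_def, Algebra.smul_def] at hs
    exact ⟨s, ⟨_, hsk⟩, Subtype.ext (show j (algebraMap A K s) * (n : F) = j (algebraMap A K s * k) by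
      rw [map_mul, hk])⟩
  let M := IsLocalRing.maximalIdeal (CAlg2.normRed O)
  have hM : ∀ (P : Ideal D), P.IsPrime → P.comap (algebraMap A D) = p → P = M.comap δ := by
    intro P hP hPp
    haveI := hP
    have hmk : ∀ z ∈ P.map δ, ∃ (s : p.primeCompl) (d : D), d ∈ P ∧ δ (algebraMap A D s) * z = δ d := by
      intro z hz
      refine Submodule.span_induction ?_ ⟨1, 0, zero_mem _, by simp⟩ ?_ ?_ hz
      · rintro _ ⟨d, hd, rfl⟩
        exact ⟨1, d, hd, by simp⟩
      · rintro x y _ _ ⟨s, d, hd, hx⟩ ⟨t, e, he, hy⟩
        refine ⟨s * t, algebraMap A D t * d + algebraMap A D s * e,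
          add_mem (Ideal.mul_mem_left _ _ hd) (Ideal.mul_mem_left _ _ he), ?_⟩
        simp only [Submonoid.coe_mul, map_mul, map_add, ← hx, ← hy]
        ring
      · rintro n x _ ⟨s, d, hd, hx⟩
        obtain ⟨t, e, ht⟩ := hmult n
        refine ⟨t * s, e * d, Ideal.mul_mem_left _ _ hd, ?_⟩
        simp only [Submonoid.coe_mul, map_mul, smul_eq_mul, ← ht, ← hx]
        ring
    have hne : P.map δ ≠ ⊤ := fun htop => by
      obtain ⟨s, d, hd, hsd⟩ := hmk 1 (htop ▸ Submodule.mem_top)
      have hinj : Function.Injective δ := fun a b hab =>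
        Subtype.ext (j.toRingHom.injective (congrArg Subtype.val hab))
      rw [mul_one] at hsd
      exact s.2 (hPp.le (show algebraMap A D s ∈ P from (hinj hsd) ▸ hd))
    have hle : P ≤ M.comap δ := Ideal.map_le_iff_le_comap.1 (IsLocalRing.le_maximalIdeal hne)
    refine le_antisymm hle fun d hd => ?_
    by_contra hdP
    refine absurd (Ideal.comap_lt_comap_of_integral_mem_sdiff hle ⟨hd, hdP⟩
      (Algebra.IsIntegral.isIntegral (R := A) d)) (fun hlt => ?_)
    obtain ⟨a, haM, haP⟩ := SetLike.exists_of_lt hlt
    have hu : IsUnit (algebraMap A O a) :=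
      IsLocalization.map_units O (⟨a, fun h => haP (hPp.ge h)⟩ : p.primeCompl)
    have : IsUnit (δ (algebraMap A D a)) := by
      have hu' := (hu.map (Ideal.Quotient.mk (nilradical O))).map (algebraMap (CAlg2.red O) (CAlg2.normRed O))
      refine (congrArg IsUnit (Subtype.ext ?_)).mp hu'
      exact (AlgHom.commutes j a).symm
    exact (Ideal.IsPrime.ne_top (I := M) inferInstance) (Ideal.eq_top_of_isUnit_mem _ haM this)
  rw [hM P₁ ‹_› h₁, hM P₂ ‹_› h₂]

/-- a neighbourhood in the base of primes under a basic open set of an integral extension -/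
theorem exists_nhd_subset_image {A B : Type u} [CommRing A] [IsDomain A] [CommRing B] [IsDomain B] [Algebra A B]
    (hinj : Function.Injective (algebraMap A B)) [Algebra.IsIntegral A B] (q : PrimeSpectrum B)
    (huniq : ∀ (P₁ P₂ : Ideal (integralClosure A (FractionRing A))), P₁.IsPrime → P₂.IsPrime →
      P₁.comap (algebraMap A _) = q.asIdeal.comap (algebraMap A B) →
      P₂.comap (algebraMap A _) = q.asIdeal.comap (algebraMap A B) → P₁ = P₂)
    (b : B) (hb : b ∉ q.asIdeal) :
    PrimeSpectrum.comap (algebraMap A B) '' (PrimeSpectrum.basicOpen b : Set (PrimeSpectrum B)) ∈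
      nhds (PrimeSpectrum.comap (algebraMap A B) q) := by
  let K := FractionRing A
  let E := FractionRing B
  have hAE : Function.Injective (algebraMap A E) := by
    rw [IsScalarTower.algebraMap_eq A B E]
    exact (IsFractionRing.injective B E).comp hinj
  letI : Algebra K E := (IsFractionRing.lift hAE).toAlgebra
  haveI : IsScalarTower A K E := IsScalarTower.of_algebraMap_eq fun a => (IsFractionRing.lift_algebraMap hAE a).symm
  let D := integralClosure A K
  let β := algebraMap B E b
  have hβ : IsIntegral A β := (Algebra.IsIntegral.isIntegral (R := A) b).map (IsScalarTower.toAlgHom A B E)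
  have hβK : IsIntegral K β := hβ.tower_top
  obtain ⟨F, hF, hFβ⟩ := hβ
  have hdvd : minpoly K β ∣ F.map (algebraMap A K) := minpoly.dvd K β (by
    rw [Polynomial.aeval_map_algebraMap]; exact hFβ)
  obtain ⟨g, hg, hgdeg, hgm⟩ := lifts_and_natDegree_eq_and_monic
    (integralClosure.mem_lifts_of_monic_of_dvd_map K hF (minpoly.monic hβK) hdvd) (minpoly.monic hβK)
  have hgβ : Polynomial.aeval β g = 0 := by
    rw [← Polynomial.aeval_map_algebraMap K, hg, minpoly.aeval]
  have hker : ∀ h : D[X], Polynomial.aeval β h = 0 → g ∣ h := by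
    intro h hh
    rw [← Polynomial.modByMonic_eq_zero_iff_dvd hgm]
    refine Polynomial.map_injective (algebraMap D K) Subtype.val_injective ?_
    rw [Polynomial.map_zero, Polynomial.map_modByMonic _ hgm, hg,
      Polynomial.modByMonic_eq_zero_iff_dvd (minpoly.monic hβK)]
    refine minpoly.dvd K β ?_
    rw [Polynomial.aeval_map_algebraMap]; exact hh
  -- the bad set
  let Z : Set (PrimeSpectrum D) := {P | ∀ i, i < g.natDegree → g.coeff i ∈ P.asIdeal}
  have hZ : IsClosed Z := by
    have : Z = PrimeSpectrum.zeroLocus {c | ∃ i, i < g.natDegree ∧ g.coeff i = c} := by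
      ext P
      simp only [Z, Set.mem_setOf_eq, PrimeSpectrum.mem_zeroLocus, Set.subset_def, forall_exists_index, and_imp,
        SetLike.mem_coe]
      exact ⟨fun h x i hi e => e ▸ h i hi, fun h i hi => h _ i hi rfl⟩
    rw [this]; exact PrimeSpectrum.isClosed_zeroLocus _
  have hclosed : IsClosed (PrimeSpectrum.comap (algebraMap A D) '' Z) :=
    PrimeSpectrum.isClosedMap_comap_of_isIntegral _ (algebraMap_isIntegral_iff.2 inferInstance) _ hZ
  have hinjAD : Function.Injective (algebraMap A D) := fun a a' haa =>
    IsFractionRing.injective A K (congrArg Subtype.val haa)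
  refine Filter.mem_of_superset (hclosed.isOpen_compl.mem_nhds ?_) ?_
  · rintro ⟨P, hPZ, hP⟩
    -- a prime of the composite over `q`
    let T := integralClosure A E
    let γ : B →ₐ[A] T := (IsScalarTower.toAlgHom A B E).codRestrict T fun x =>
      (Algebra.IsIntegral.isIntegral (R := A) x).map (IsScalarTower.toAlgHom A B E)
    have hγ : Function.Injective γ := fun x y hxy => IsFractionRing.injective B E (congrArg Subtype.val hxy)
    let δ : D →ₐ[A] T := (IsScalarTower.toAlgHom A D E).codRestrict T fun x =>
      (Algebra.IsIntegral.isIntegral (R := A) x).map (IsScalarTower.toAlgHom A D E)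
    letI : Algebra B T := γ.toRingHom.toAlgebra
    haveI : IsScalarTower A B T := IsScalarTower.of_algebraMap_eq fun a => (γ.commutes a).symm
    haveI : Algebra.IsIntegral B T := Algebra.IsIntegral.tower_top (R := A)
    obtain ⟨Q, hQp, hQ⟩ := Ideal.exists_ideal_over_prime_of_isIntegral_of_isDomain (S := T) q.asIdeal
      (by rw [show RingHom.ker (algebraMap B T) = ⊥ from (RingHom.injective_iff_ker_eq_bot _).1 hγ]; exact bot_le)
    haveI := hQp
    have hQP : Q.comap δ.toRingHom = P.asIdeal := by
      refine huniq _ _ inferInstance P.2 ?_ (congrArg PrimeSpectrum.asIdeal hP)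
      rw [← hQ, Ideal.comap_comap, Ideal.comap_comap]
      congr 1
      exact RingHom.ext fun a => (δ.commutes a).trans (γ.commutes a).symm
    refine hb ?_
    rw [← hQ]
    show γ b ∈ Q
    refine hQp.mem_of_pow_mem g.natDegree ?_
    have hsum : γ b ^ g.natDegree = - ∑ i ∈ Finset.range g.natDegree, δ (g.coeff i) * γ b ^ i := by
      refine Subtype.ext ?_
      have h := hgβ
      rw [Polynomial.aeval_eq_sum_range, Finset.sum_range_succ, hgm.coeff_natDegree, one_smul, add_comm] at h
      push_cast
      refine (eq_neg_of_add_eq_zero_left h).trans ?_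
      congr 1
    rw [hsum]
    refine neg_mem (Ideal.sum_mem _ fun i hi => Ideal.mul_mem_right _ _ ?_)
    show g.coeff i ∈ Q.comap δ.toRingHom
    rw [hQP]
    exact hPZ i (Finset.mem_range.1 hi)
  · intro P₀ hP₀
    obtain ⟨P', hP'p, hP'⟩ := Ideal.exists_ideal_over_prime_of_isIntegral_of_isDomain (S := D) P₀.asIdeal
      (by rw [(RingHom.injective_iff_ker_eq_bot _).1 hinjAD]; exact bot_le)
    haveI := hP'p
    have hnot : ∃ i, i < g.natDegree ∧ g.coeff i ∉ P' := by
      by_contra h
      push_neg at h
      exact hP₀ ⟨⟨P', hP'p⟩, h, PrimeSpectrum.ext hP'⟩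
    let κ := AlgebraicClosure (FractionRing (D ⧸ P'))
    let φ : D →+* κ := (algebraMap (FractionRing (D ⧸ P')) κ).comp
      ((algebraMap (D ⧸ P') (FractionRing (D ⧸ P'))).comp (Ideal.Quotient.mk P'))
    have hφ : ∀ d, φ d = 0 ↔ d ∈ P' := fun d => by
      simp only [φ, RingHom.comp_apply, map_eq_zero, IsFractionRing.to_map_eq_zero_iff, Ideal.Quotient.eq_zero_iff_mem]
    obtain ⟨r, hr, hr0⟩ : ∃ r : κ, (g.map φ).IsRoot r ∧ r ≠ 0 := by
      by_contra h
      push_neg at h
      have hroots : (g.map φ).roots = Multiset.replicate g.natDegree 0 := Multiset.eq_replicate.2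
        ⟨by rw [← (IsAlgClosed.splits (g.map φ)).natDegree_eq_card_roots, hgm.natDegree_map],
          fun r hr => h r (Polynomial.isRoot_of_mem_roots hr)⟩
      have hX : g.map φ = Polynomial.X ^ g.natDegree := by
        rw [(IsAlgClosed.splits (g.map φ)).eq_prod_roots_of_monic (hgm.map φ), hroots]
        simp
      obtain ⟨i, hi, hiP⟩ := hnot
      refine hiP ((hφ _).1 ?_)
      rw [← Polynomial.coeff_map, hX, Polynomial.coeff_X_pow, if_neg hi.ne]
    let S := Algebra.adjoin A ({b} : Set B)
    let π : A[X] →ₐ[A] B := Polynomial.aeval b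
    let ev : A[X] →+* κ := Polynomial.eval₂RingHom (φ.comp (algebraMap A D)) r
    have hkerπ : RingHom.ker π ≤ RingHom.ker ev := by
      intro h hh
      have hh' : Polynomial.aeval β (h.map (algebraMap A D)) = 0 := by
        rw [Polynomial.aeval_map_algebraMap,
          show β = IsScalarTower.toAlgHom A B E b from rfl, Polynomial.aeval_algHom_apply]
        rw [show Polynomial.aeval b h = 0 from hh, map_zero]
      obtain ⟨s, hs⟩ := hker _ hh'
      show Polynomial.eval₂ (φ.comp (algebraMap A D)) r h = 0
      rw [← Polynomial.eval₂_map, hs, Polynomial.eval₂_mul,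
        show Polynomial.eval₂ φ r g = 0 by rw [← Polynomial.eval_map]; exact hr, zero_mul]
    let C := π.range
    let πC : A[X] →+* C := π.rangeRestrict.toRingHom
    have hπC : Function.Surjective πC := π.rangeRestrict_surjective
    let ε : C →+* κ := RingHom.liftOfSurjective πC hπC ⟨ev, fun h hh => hkerπ (congrArg Subtype.val hh)⟩
    have hε : ∀ h, ε (πC h) = ev h := RingHom.liftOfRightInverse_comp_apply _ _ _ _
    haveI : Algebra.IsIntegral C B := Algebra.IsIntegral.tower_top (R := A)
    haveI := RingHom.ker_isPrime ε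
    obtain ⟨Q, hQp, hQ⟩ := Ideal.exists_ideal_over_prime_of_isIntegral_of_isDomain (S := B) (RingHom.ker ε)
      (by rw [show RingHom.ker (algebraMap C B) = ⊥ from (RingHom.injective_iff_ker_eq_bot _).1 Subtype.val_injective]
          exact bot_le)
    refine ⟨⟨Q, hQp⟩, fun hbQ => ?_, PrimeSpectrum.ext ?_⟩
    · have h1 : πC Polynomial.X ∈ Q.comap (algebraMap C B) := by
        show π Polynomial.X ∈ Q
        rw [show π Polynomial.X = b from Polynomial.aeval_X b]
        exact hbQ
      rw [hQ, RingHom.mem_ker, hε] at h1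
      exact hr0 ((Polynomial.eval₂_X _ _).symm.trans h1)
    · show Q.comap (algebraMap A B) = P₀.asIdeal
      rw [IsScalarTower.algebraMap_eq A C B, ← Ideal.comap_comap, hQ, ← hP']
      ext a
      show ε (algebraMap A C a) = 0 ↔ algebraMap A D a ∈ P'
      rw [← hφ, show algebraMap A C a = πC (Polynomial.C a) from (Subtype.ext (Polynomial.aeval_C b a).symm), hε]
      show Polynomial.eval₂ (φ.comp (algebraMap A D)) r (Polynomial.C a) = 0 ↔ _
      rw [Polynomial.eval₂_C]
      rfl

/-- **EGA IV 14.4.1.2**: integral extensions of domains are open at primes over unibranch points -/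
theorem isOpenAt_of_integral {A B : Type u} [CommRing A] [IsDomain A] [CommRing B] [IsDomain B] [Algebra A B]
    (hinj : Function.Injective (algebraMap A B)) [Algebra.IsIntegral A B] (q : PrimeSpectrum B)
    (hu : CAlg2.IsUnibranch (Localization.AtPrime (q.asIdeal.comap (algebraMap A B)))) :
    EGA43.IsOpenAt (PrimeSpectrum.comap (algebraMap A B)) q := by
  intro U hU
  obtain ⟨_, ⟨b, rfl⟩, hbq, hbU⟩ := PrimeSpectrum.isTopologicalBasis_basic_opens.mem_nhds_iff.1 hU
  exact Filter.mem_of_superset (exists_nhd_subset_image hinj q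
    (fun P₁ P₂ h₁ h₂ e₁ e₂ => by haveI := h₁; haveI := h₂; exact prime_unique_of_unibranch _ hu P₁ P₂ e₁ e₂) b hbq)
    (Set.image_mono hbU)

end Groth.Agent.UnibFibre.OpenAt

end
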