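import Groth.Agent.RegFS6.FlatConv
import Groth.Agent.RegFS6.SmoothAt
import Groth.Agent.GeomRedFlat5.Nhd
import Mathlib.AlgebraicGeometry.Morphisms.Smooth

/-!
# The smooth locus through flatness and geometric regularity of the fibre
-/

noncomputable section

set_option autoImplicit false
set_option linter.style.haveILetI false
set_option linter.unusedSectionVars false
set_option backward.isDefEq.respectTransparency.types false
set_option maxHeartbeats 1000000
set_option synthInstance.maxHeartbeats 400000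

universe u

open CategoryTheory AlgebraicGeometry IsLocalRing
open scoped TensorProduct

namespace Groth.Agent.UnibFibre.SmoothCrit

/-- geometric regularity along compatible isomorphisms -/
theorem geometricallyRegular_congr {k k' S S' : Type u} [Field k] [Field k'] [CommRing S] [CommRing S'] [Algebra k S]
    [Algebra k' S'] (e : k ≃+* k') (E : S ≃+* S') (h : ∀ a, E (algebraMap k S a) = algebraMap k' S' (e a))
    (hS : CAlg.IsGeometricallyRegular k S) : CAlg.IsGeometricallyRegular k' S' := by
  intro L _ _ hL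
  haveI := hL
  letI : Algebra k k' := e.toRingHom.toAlgebra
  letI : Algebra k L := ((algebraMap k' L).comp e.toRingHom).toAlgebra
  haveI : IsScalarTower k k' L := IsScalarTower.of_algebraMap_eq' rfl
  letI : Algebra k S' := ((algebraMap k' S').comp e.toRingHom).toAlgebra
  haveI : IsScalarTower k k' S' := IsScalarTower.of_algebraMap_eq' rfl
  haveI : Module.Finite k k' := Module.Finite.of_surjective (Algebra.linearMap k k') e.surjective
  haveI : Module.Finite k L := Module.Finite.trans k' L
  haveI : IsRegularRing (L ⊗[k] S) := hS L inferInstance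
  haveI : TensorProduct.CompatibleSMul k k' L S' := ⟨fun a l s => by
    obtain ⟨a, rfl⟩ := e.surjective a
    show (algebraMap k k' a • l) ⊗ₜ[k] s = l ⊗ₜ[k] (algebraMap k k' a • s)
    rw [IsScalarTower.algebraMap_smul k' a l, IsScalarTower.algebraMap_smul k' a s, TensorProduct.smul_tmul]⟩
  let Ea : S ≃ₐ[k] S' := AlgEquiv.ofRingEquiv (f := E) h
  exact IsRegularRing.of_ringEquiv
    ((Algebra.TensorProduct.congr (AlgEquiv.refl : L ≃ₐ[k] L) Ea).toRingEquiv.trans
      (Algebra.TensorProduct.equivOfCompatibleSMul k' k k L S').toRingEquiv)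

variable {A B : Type u} [CommRing A] [CommRing B] [IsLocalRing A] [IsLocalRing B] [Algebra A B]
  [IsLocalHom (algebraMap A B)]

/-- the closed fibre in the two models -/
theorem geometricallyRegular_fiber_iff :
    letI : Algebra (ResidueField A) (B ⧸ (maximalIdeal A).map (algebraMap A B)) :=
      (Ideal.quotientMap ((maximalIdeal A).map (algebraMap A B)) (algebraMap A B) Ideal.le_comap_map).toAlgebra
    CAlg.IsGeometricallyRegular (maximalIdeal A).ResidueField ((maximalIdeal A).Fiber B) ↔
      CAlg.IsGeometricallyRegular (ResidueField A) (B ⧸ (maximalIdeal A).map (algebraMap A B)) := by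
  letI : Algebra (ResidueField A) (B ⧸ (maximalIdeal A).map (algebraMap A B)) :=
    (Ideal.quotientMap ((maximalIdeal A).map (algebraMap A B)) (algebraMap A B) Ideal.le_comap_map).toAlgebra
  let k : ResidueField A ≃+* (maximalIdeal A).ResidueField :=
    RingEquiv.ofBijective (algebraMap (A ⧸ maximalIdeal A) (maximalIdeal A).ResidueField)
      (maximalIdeal A).bijective_algebraMap_quotient_residueField
  let ka : (A ⧸ maximalIdeal A) ≃ₐ[A] (maximalIdeal A).ResidueField :=
    AlgEquiv.ofBijective (IsScalarTower.toAlgHom A (A ⧸ maximalIdeal A) (maximalIdeal A).ResidueField)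
      (maximalIdeal A).bijective_algebraMap_quotient_residueField
  let E : (B ⧸ (maximalIdeal A).map (algebraMap A B)) ≃+* (maximalIdeal A).Fiber B :=
    ((Algebra.TensorProduct.quotIdealMapEquivTensorQuot B (maximalIdeal A)).toRingEquiv.trans
      (Algebra.TensorProduct.comm A B (A ⧸ maximalIdeal A)).toRingEquiv).trans
      (Algebra.TensorProduct.congr ka (AlgEquiv.refl (R := A) (A₁ := B))).toRingEquiv
  have hE : ∀ a : A, E (Ideal.Quotient.mk _ (algebraMap A B a)) =
      algebraMap (maximalIdeal A).ResidueField ((maximalIdeal A).Fiber B) (k (Ideal.Quotient.mk _ a)) := fun a => by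
    show Algebra.TensorProduct.congr ka AlgEquiv.refl (Algebra.TensorProduct.comm A B (A ⧸ maximalIdeal A)
      (algebraMap A B a ⊗ₜ[A] (1 : A ⧸ maximalIdeal A))) = ka (algebraMap A _ a) ⊗ₜ[A] (1 : B)
    rw [Algebra.TensorProduct.comm_tmul, Algebra.TensorProduct.congr_apply, Algebra.TensorProduct.map_tmul]
    simp only [AlgEquiv.coe_toAlgHom, map_one, AlgEquiv.coe_refl, id_eq, AlgEquiv.commutes]
    rw [Algebra.algebraMap_eq_smul_one, Algebra.algebraMap_eq_smul_one, TensorProduct.smul_tmul]
  have hE' : ∀ r : ResidueField A, E (algebraMap (ResidueField A) _ r) =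
      algebraMap (maximalIdeal A).ResidueField ((maximalIdeal A).Fiber B) (k r) := fun r => by
    obtain ⟨a, rfl⟩ := Ideal.Quotient.mk_surjective r
    exact hE a
  refine ⟨geometricallyRegular_congr k.symm E.symm fun r => ?_, geometricallyRegular_congr k E hE'⟩
  obtain ⟨r, rfl⟩ := k.surjective r
  rw [k.symm_apply_apply, ← hE', E.symm_apply_apply]

omit [IsLocalHom (algebraMap A B)] in
theorem adic_of_formallySmooth [Algebra.FormallySmooth A B] : CAlgX.IsAdicFormallySmooth A B (maximalIdeal B) :=
  fun E _ _ J hJ ψ _ => by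
    obtain ⟨χ, hχ⟩ := Algebra.FormallySmooth.exists_lift J ⟨2, hJ⟩ ψ
    exact ⟨χ, hχ⟩

omit [IsLocalHom (algebraMap A B)] in
theorem adic_restrict {A₀ : Type u} [CommRing A₀] [Algebra A₀ A] [Algebra A₀ B] [IsScalarTower A₀ A B]
    [Algebra.FormallySmooth A₀ A] (h : CAlgX.IsAdicFormallySmooth A B (maximalIdeal B)) :
    CAlgX.IsAdicFormallySmooth A₀ B (maximalIdeal B) := by
  intro E _ _ J hJ ψ hψ
  obtain ⟨χ₀, hχ₀⟩ := Algebra.FormallySmooth.exists_lift J ⟨2, hJ⟩ (ψ.comp (IsScalarTower.toAlgHom A₀ A B))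
  letI : Algebra A E := χ₀.toRingHom.toAlgebra
  haveI : IsScalarTower A₀ A E := IsScalarTower.of_algebraMap_eq fun a => (χ₀.commutes a).symm
  let ψ' : B →ₐ[A] E ⧸ J := { ψ.toRingHom with commutes' := fun a => (AlgHom.congr_fun hχ₀ a).symm }
  obtain ⟨χ, hχ⟩ := h E J hJ ψ' hψ
  exact ⟨χ.restrictScalars A₀, AlgHom.ext fun b => AlgHom.congr_fun hχ b⟩

/-- Grothendieck's criterion for smoothness at a point of a noetherian algebra of finite type -/
theorem isSmoothAt_iff_adic {A₀ C : Type u} [CommRing A₀] [IsNoetherianRing A₀] [CommRing C] [Algebra A₀ C]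
    [Algebra.FiniteType A₀ C] (q : Ideal C) [q.IsPrime] :
    Algebra.IsSmoothAt A₀ q ↔
      CAlgX.IsAdicFormallySmooth A₀ (Localization.AtPrime q) (maximalIdeal (Localization.AtPrime q)) := by
  constructor
  · intro h
    haveI : Algebra.FormallySmooth A₀ (Localization.AtPrime q) := h
    intro E _ _ J hJ ψ _
    obtain ⟨χ, hχ⟩ := Algebra.FormallySmooth.exists_lift J ⟨2, hJ⟩ ψ
    exact ⟨χ, hχ⟩
  · intro h
    obtain ⟨n, π, hπ⟩ := Algebra.FiniteType.iff_quotient_mvPolynomial''.1 ‹Algebra.FiniteType A₀ C›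
    obtain ⟨g, hg, hfs⟩ := RegFS6.exists_formallySmooth_away π hπ q h
    haveI := hfs
    have hle : Submonoid.powers g ≤ q.primeCompl := Submonoid.powers_le.2 hg
    letI := IsLocalization.localizationAlgebraOfSubmonoidLe (Localization.Away g) (Localization.AtPrime q)
      (Submonoid.powers g) q.primeCompl hle
    haveI := IsLocalization.localization_isScalarTower_of_submonoid_le (Localization.Away g) (Localization.AtPrime q)
      (Submonoid.powers g) q.primeCompl hle
    haveI : IsScalarTower A₀ (Localization.Away g) (Localization.AtPrime q) := IsScalarTower.of_algebraMap_eq fun r => by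
      rw [IsScalarTower.algebraMap_apply A₀ C (Localization.Away g), ← IsScalarTower.algebraMap_apply C,
        ← IsScalarTower.algebraMap_apply]
    haveI : IsLocalization (q.primeCompl.map (algebraMap C (Localization.Away g))) (Localization.AtPrime q) :=
      IsLocalization.isLocalization_of_submonoid_le _ _ (Submonoid.powers g) q.primeCompl hle
    haveI : Algebra.FormallySmooth (Localization.Away g) (Localization.AtPrime q) :=
      Algebra.FormallySmooth.of_isLocalization (q.primeCompl.map (algebraMap C (Localization.Away g)))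
    exact Algebra.FormallySmooth.comp A₀ (Localization.Away g) (Localization.AtPrime q)

variable {X Y : Scheme.{u}}

/-- **smoothness at a point through flatness and geometric regularity of the fibre** -/
theorem mem_smoothLocus_iff [IsLocallyNoetherian Y] (f : X ⟶ Y) [LocallyOfFinitePresentation f] (x : X) :
    letI φ := (f.stalkMap x).hom
    letI 𝔪 := IsLocalRing.maximalIdeal ↑(Y.presheaf.stalk (f.base x))
    letI : Algebra (IsLocalRing.ResidueField ↑(Y.presheaf.stalk (f.base x))) (↑(X.presheaf.stalk x) ⧸ 𝔪.map φ) :=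
      (Ideal.quotientMap (𝔪.map φ) φ Ideal.le_comap_map).toAlgebra
    x ∈ f.smoothLocus ↔ (f.stalkMap x).hom.Flat ∧
      CAlg.IsGeometricallyRegular (IsLocalRing.ResidueField ↑(Y.presheaf.stalk (f.base x)))
          (↑(X.presheaf.stalk x) ⧸ 𝔪.map φ) := by
  let A := Y.presheaf.stalk (f x)
  let B := X.presheaf.stalk x
  letI : Algebra A B := (f.stalkMap x).hom.toAlgebra
  haveI : IsLocalHom (algebraMap A B) := inferInstanceAs (IsLocalHom (f.stalkMap x).hom)
  haveI : IsLocallyNoetherian X := LocallyOfFiniteType.isLocallyNoetherian f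
  have key := RegFS6.fs_iff_flat_and_geometricallyRegular (A := A) (B := B)
  rw [geometricallyRegular_fiber_iff (A := A) (B := B)] at key
  rw [Scheme.Hom.mem_smoothLocus]
  refine ⟨fun h => ?_, fun h => ?_⟩
  · haveI : Algebra.FormallySmooth A B := h
    exact key.1 adic_of_formallySmooth
  · obtain ⟨U, hU, hxU, -⟩ := exists_isAffineOpen_mem_and_subset (x := f x) (U := ⊤) trivial
    obtain ⟨V, hV, hxV, hVU⟩ := exists_isAffineOpen_mem_and_subset (x := x) (U := f ⁻¹ᵁ U) hxU
    rw [formallySmooth_stalkMap_iff U hU V hV hVU hxV]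
    letI : Algebra Γ(Y, U) Γ(X, V) := (f.appLE U V hVU).hom.toAlgebra
    haveI : IsNoetherianRing Γ(Y, U) := IsLocallyNoetherian.component_noetherian ⟨U, hU⟩
    haveI : Algebra.FiniteType Γ(Y, U) Γ(X, V) := f.finiteType_appLE hU hV hVU
    refine (isSmoothAt_iff_adic (hV.primeIdealOf ⟨x, hxV⟩).asIdeal).2 ?_
    letI : Algebra Γ(X, V) B := (X.presheaf.germ V x hxV).hom.toAlgebra
    haveI : IsLocalization.AtPrime B (hV.primeIdealOf ⟨x, hxV⟩).asIdeal := hV.isLocalization_stalk ⟨x, hxV⟩
    letI : Algebra Γ(Y, U) A := (Y.presheaf.germ U (f x) hxU).hom.toAlgebra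
    haveI : IsLocalization.AtPrime A (hU.primeIdealOf ⟨f x, hxU⟩).asIdeal := hU.isLocalization_stalk ⟨f x, hxU⟩
    letI : Algebra Γ(Y, U) B := ((algebraMap Γ(X, V) B).comp (algebraMap Γ(Y, U) Γ(X, V))).toAlgebra
    haveI : IsScalarTower Γ(Y, U) Γ(X, V) B := IsScalarTower.of_algebraMap_eq' rfl
    haveI : IsScalarTower Γ(Y, U) A B := IsScalarTower.of_algebraMap_eq' (by
      show (f.appLE U V hVU ≫ X.presheaf.germ V x hxV).hom = (Y.presheaf.germ U (f x) hxU ≫ f.stalkMap x).hom
      rw [f.germ_stalkMap, Scheme.Hom.app_eq_appLE]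
      simp only [Scheme.Hom.appLE, Category.assoc]
      rw [TopCat.Presheaf.germ_res, TopCat.Presheaf.germ_res])
    haveI : Algebra.FormallySmooth Γ(Y, U) A :=
      Algebra.FormallySmooth.of_isLocalization (hU.primeIdealOf ⟨f x, hxU⟩).asIdeal.primeCompl
    have h0 := adic_restrict (A₀ := Γ(Y, U)) (key.2 h)
    let e : B ≃ₐ[Γ(Y, U)] Localization.AtPrime (hV.primeIdealOf ⟨x, hxV⟩).asIdeal :=
      (IsLocalization.algEquiv (hV.primeIdealOf ⟨x, hxV⟩).asIdeal.primeCompl B _).restrictScalars Γ(Y, U)
    intro E _ _ J hJ ψ hψ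
    obtain ⟨k, hk⟩ := hψ
    obtain ⟨χ, hχ⟩ := h0 E J hJ (ψ.comp e.toAlgHom) ⟨k, fun b hb => hk _ (EGA41Lib.mem_pow_of_forall_mem e.toAlgHom
      (fun y hy => by
        rw [mem_maximalIdeal, mem_nonunits_iff] at hy ⊢
        exact fun hu => hy (by simpa using hu.map e.symm)) k b hb)⟩
    refine ⟨χ.comp e.symm.toAlgHom, AlgHom.ext fun z => ?_⟩
    have := AlgHom.congr_fun hχ (e.symm z)
    simpa using this

end Groth.Agent.UnibFibre.SmoothCrit

end
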