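import Groth.Agent.UnivOpen.SectionConst
import Groth.Agent.UnivOpen.GeomUnibranch
import Groth.Agent.H23.StalkPrimes
import Groth.Agent.H23.RedSub
import Groth.Agent.AssLib.Basic
import Groth.Prelude.Def_FDesc
import Groth.Prelude.Def_EGA43

/-!
# Fibres and unibranch points under a change of base
-/

noncomputable section

set_option autoImplicit false
set_option linter.style.haveILetI false
set_option linter.unusedSectionVars false

universe u

open CategoryTheory CategoryTheory.Limits AlgebraicGeometry IsLocalRing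

namespace Groth.Agent.UnibFibre

variable {X Y Y' : Scheme.{u}} (f : X ⟶ Y) (τ : Y' ⟶ Y)

/-- a point of a field extension of a fibre of a base change is a point of a field extension of a fibre, with the same
local ring -/
theorem exists_bc_point {c : Y'} {y : Y} (hy : τ c = y) (a : ↥(f.fiber y)) (w : ↥((pullback.snd f τ).fiber c))
    (hw : pullback.fst f τ ((pullback.snd f τ).fiberι c w) = f.fiberι y a)
    (K : Type u) [Field K] [Algebra (ResidueField (Y'.presheaf.stalk c)) K]
    (z : ↥(FBase.bc ((pullback.snd f τ).fiberToSpecResidueField c) K))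
    (hz : (FBase.bcπ ((pullback.snd f τ).fiberToSpecResidueField c) K).base z = w) :
    ∃ (_ : Algebra (ResidueField (Y.presheaf.stalk y)) K) (z' : ↥(FBase.bc (f.fiberToSpecResidueField y) K)),
      (FBase.bcπ (f.fiberToSpecResidueField y) K).base z' = a ∧
        Nonempty ((FBase.bc ((pullback.snd f τ).fiberToSpecResidueField c) K).presheaf.stalk z ≃+*
          (FBase.bc (f.fiberToSpecResidueField y) K).presheaf.stalk z') := by
  let q := pullback.snd f τ
  let μ : Y'.residueField c ⟶ CommRingCat.of K :=
    CommRingCat.ofHom (algebraMap (ResidueField (Y'.presheaf.stalk c)) K)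
  let φ : Y.residueField y ⟶ CommRingCat.of K := (Y.residueFieldCongr hy).inv ≫ τ.residueFieldMap c ≫ μ
  letI alg : Algebra (ResidueField (Y.presheaf.stalk y)) K := φ.hom.toAlgebra
  have hφ : Spec.map φ ≫ Y.fromSpecResidueField y = (Spec.map μ ≫ Y'.fromSpecResidueField c) ≫ τ := by
    simp only [φ, Spec.map_comp, Category.assoc, Scheme.residueFieldCongr_inv,
      Scheme.residueFieldCongr_fromSpecResidueField, Scheme.Hom.SpecMap_residueFieldMap_fromSpecResidueField]
  let π₁ := FBase.bcπ (q.fiberToSpecResidueField c) K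
  let s₁ := FBase.bcStr (q.fiberToSpecResidueField c) K
  let π₂ := FBase.bcπ (f.fiberToSpecResidueField y) K
  let s₂ := FBase.bcStr (f.fiberToSpecResidueField y) K
  have A₁ : IsPullback π₁ s₁ (q.fiberToSpecResidueField c) (Spec.map μ) := IsPullback.of_hasPullback _ _
  have B₁ : IsPullback ((π₁ ≫ q.fiberι c) ≫ pullback.fst f τ) s₁ f
      ((Spec.map μ ≫ Y'.fromSpecResidueField c) ≫ τ) :=
    (A₁.paste_horiz (IsPullback.of_hasPullback q (Y'.fromSpecResidueField c))).paste_horiz
      (IsPullback.of_hasPullback f τ)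
  have A₂ : IsPullback π₂ s₂ (f.fiberToSpecResidueField y) (Spec.map φ) := IsPullback.of_hasPullback _ _
  have B₂ : IsPullback (π₂ ≫ f.fiberι y) s₂ f ((Spec.map μ ≫ Y'.fromSpecResidueField c) ≫ τ) := by
    have h := A₂.paste_horiz (IsPullback.of_hasPullback f (Y.fromSpecResidueField y))
    rw [hφ] at h
    exact h
  let e := B₁.isoIsPullback _ _ B₂
  have he : e.hom ≫ π₂ ≫ f.fiberι y = (π₁ ≫ q.fiberι c) ≫ pullback.fst f τ := B₁.isoIsPullback_hom_fst _ _ B₂
  refine ⟨alg, e.hom z, (f.fiberι y).isEmbedding.injective ?_,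
    ⟨(RingEquiv.ofBijective (e.hom.stalkMap z).hom (ConcreteCategory.bijective_of_isIso (e.hom.stalkMap z))).symm⟩⟩
  show (e.hom ≫ π₂ ≫ f.fiberι y) z = _
  rw [he, ← hw]
  show pullback.fst f τ (q.fiberι c (π₁ z)) = _
  exact congrArg (fun t => pullback.fst f τ (q.fiberι c t)) hz

/-- geometric pointwise integrality gives domains on fibres of base changes -/
theorem isGeomPtIntegralAt_baseChange {c : Y'} {y : Y} (hy : τ c = y) (a : ↥(f.fiber y))
    (ha : FBase.IsGeomPtIntegralAt (f.fiberToSpecResidueField y) a) (w : ↥((pullback.snd f τ).fiber c))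
    (hw : pullback.fst f τ ((pullback.snd f τ).fiberι c w) = f.fiberι y a) :
    FBase.IsGeomPtIntegralAt ((pullback.snd f τ).fiberToSpecResidueField c) w := fun K _ _ z hz => by
  obtain ⟨alg, z', hz', ⟨e⟩⟩ := exists_bc_point f τ hy a w hw K z hz
  letI := alg
  haveI := ha K z' hz'
  exact e.toMulEquiv.isDomain _

/-- geometric reducedness at a point passes to fibres of base changes -/
theorem isGeomReducedAt_baseChange {c : Y'} {y : Y} (hy : τ c = y) (a : ↥(f.fiber y))
    (ha : FBase.IsGeomReducedAt (f.fiberToSpecResidueField y) a) (w : ↥((pullback.snd f τ).fiber c))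
    (hw : pullback.fst f τ ((pullback.snd f τ).fiberι c w) = f.fiberι y a) :
    FBase.IsGeomReducedAt ((pullback.snd f τ).fiberToSpecResidueField c) w := fun K _ _ z hz => by
  obtain ⟨alg, z', hz', ⟨e⟩⟩ := exists_bc_point f τ hy a w hw K z hz
  letI := alg
  haveI := ha K z' hz'
  exact isReduced_of_injective e.toRingHom e.injective

/-- geometric pointwise integrality implies geometric reducedness -/
theorem isGeomReducedAt_of_geomPtIntegral {k : Type u} [Field k] {Z : Scheme.{u}} {p : Z ⟶ Spec (CommRingCat.of k)}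
    {z : Z} (h : FBase.IsGeomPtIntegralAt p z) : FBase.IsGeomReducedAt p z := fun K _ _ z' hz' => by
  haveI := h K z' hz'
  infer_instance

/-- the local ring at a geometrically pointwise integral point is a domain -/
theorem isDomain_of_geomPtIntegral {k : Type u} [Field k] {Z : Scheme.{u}} {p : Z ⟶ Spec (CommRingCat.of k)}
    {z : Z} (h : FBase.IsGeomPtIntegralAt p z) : IsDomain (Z.presheaf.stalk z) := by
  let π := FBase.bcπ p k
  haveI : IsIso π := by
    have : IsIso (Spec.map (CommRingCat.ofHom (algebraMap k k))) := by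
      rw [show CommRingCat.ofHom (algebraMap k k) = 𝟙 _ from rfl, Spec.map_id]; infer_instance
    exact inferInstanceAs (IsIso (pullback.fst _ _))
  obtain ⟨z', hz'⟩ := π.surjective z
  haveI := h k z' hz'
  subst hz'
  exact (RingEquiv.ofBijective (π.stalkMap z').hom
    (ConcreteCategory.bijective_of_isIso (π.stalkMap z'))).toMulEquiv.isDomain _

/-- universal openness at a point passes to base changes -/
theorem isUnivOpenAt_baseChange (x' : ↥(pullback f τ)) (h : EGA43.IsUnivOpenAt f (pullback.fst f τ x')) :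
    EGA43.IsUnivOpenAt (pullback.snd f τ) x' := by
  intro T g t ht
  let e := pullbackLeftPullbackSndIso f τ g
  have he : e.hom ≫ pullback.snd f (g ≫ τ) = pullback.snd (pullback.snd f τ) g :=
    pullbackLeftPullbackSndIso_hom_snd _ _ _
  have he' : e.hom ≫ pullback.fst f (g ≫ τ) = pullback.fst (pullback.snd f τ) g ≫ pullback.fst f τ :=
    pullbackLeftPullbackSndIso_hom_fst _ _ _
  have h1 : (pullback.fst f (g ≫ τ)).base (e.hom t) = pullback.fst f τ x' := by
    show (e.hom ≫ pullback.fst f (g ≫ τ)) t = _
    rw [he', ← ht]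
    rfl
  have h2 := h T (g ≫ τ) (e.hom t) h1
  intro N hN
  have h3 := h2 (e.hom '' N) (e.hom.homeomorph.isOpenMap.image_mem_nhds hN)
  rw [Set.image_image] at h3
  rw [← he]
  exact h3

/-- a surjection of local rings with nilpotent kernel preserves geometric unibranchness -/
theorem isGeomUnibranch_of_surjective {A B : Type u} [CommRing A] [CommRing B] [IsLocalRing A] [IsLocalRing B]
    (φ : A →+* B) (hφ : Function.Surjective φ) (hk : RingHom.ker φ ≤ nilradical A) (h : CAlg2.IsGeomUnibranch A) :
    CAlg2.IsGeomUnibranch B := by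
  have hnil : nilradical A = (nilradical B).comap φ := by
    refine le_antisymm (fun a ha => mem_nilradical.2 ((mem_nilradical.1 ha).map φ)) fun a ha => ?_
    obtain ⟨n, hn⟩ := mem_nilradical.1 (Ideal.mem_comap.1 ha)
    rw [← map_pow] at hn
    obtain ⟨m, hm⟩ := mem_nilradical.1 (hk (RingHom.mem_ker.2 hn))
    exact mem_nilradical.2 ⟨n * m, by rw [pow_mul]; exact hm⟩
  let ψ : A →+* CAlg2.red B := (Ideal.Quotient.mk (nilradical B)).comp φ
  have hψ : Function.Surjective ψ := Ideal.Quotient.mk_surjective.comp hφ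
  have hker : nilradical A = RingHom.ker ψ := by
    rw [← RingHom.comap_ker, Ideal.mk_ker]
    exact hnil
  let e : CAlg2.red A ≃+* CAlg2.red B :=
    (Ideal.quotEquivOfEq hker).trans (RingHom.quotientKerEquivOfSurjective hψ)
  exact UnivOpen.GU.isGeomUnibranch (UnivOpen.GU.of_ringEquiv e.symm (UnivOpen.GU.of_isGeomUnibranch h))

open H23 StalkPrimes CDiv6 in
/-- the kernel on a local ring of a surjective preimmersion consists of nilpotents -/
theorem ker_stalkMap_le_nilradical (ι : Y' ⟶ Y) [IsPreimmersion ι] [Surjective ι] (y : Y') :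
    RingHom.ker (ι.stalkMap y).hom ≤ nilradical (Y.presheaf.stalk (ι y)) := by
  rw [nilradical_eq_sInf]
  refine le_sInf fun P hP => ?_
  haveI : P.IsPrime := hP
  obtain ⟨w, hw, e⟩ := exists_point P
  obtain ⟨w', rfl⟩ := ι.surjective w
  have hw' : w' ⤳ y := ι.isEmbedding.isInducing.specializes_iff.1 hw
  rw [← e, show hw = hw'.map ι.continuous from rfl, ← comap_primeOf ι hw']
  exact fun a ha => by
    rw [Ideal.mem_comap, RingHom.mem_ker.1 ha]
    exact zero_mem _

end Groth.Agent.UnibFibre

end
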